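import Cfsg.Agent.Lib.LocalEvenB.ConstFix.Low
import Cfsg.Agent.Lib.CIT.SuzukiRecog.General
import Cfsg.Agent.Lib.Perm.SharplyTwo
import Cfsg.Agent.S0215

/-!
Owner: helper20. A doubly transitive group with an involution whose centraliser has constant fixity
is `PSL₂(q)`, `Sz(q)` or has a regular normal subgroup.
-/

set_option autoImplicit false
set_option linter.all false

namespace CfsgLib.LocalEvenB.ConstFix

open MulAction

/-- A regular normal subgroup. -/
def HasRegular (G Ω : Type*) [Group G] [MulAction G Ω] : Prop :=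
  ∃ R : Subgroup G, R.Normal ∧ (∀ x y : Ω, ∃ r ∈ R, r • x = y) ∧ ∀ x : Ω, ∀ r ∈ R, r • x = x → r = 1

namespace Raw

variable {G Ω : Type*} [Group G] [MulAction G Ω] [Finite G] [Finite Ω] [FaithfulSMul G Ω] {i : ℕ}
  {t : G} (S : Raw G Ω i t)
include S

theorem two' : IsMultiplyPretransitive G Ω 2 :=
  is_two_pretransitive_iff.2 fun {a b c d} h h' => S.two a b c d h h'

theorem normal_transitive {N : Subgroup G} (hN : N.Normal) (h : N ≠ ⊥) : ∀ x y : Ω, ∃ r ∈ N, r • x = y := by
  haveI : IsPreprimitive G Ω := isPreprimitive_of_is_two_pretransitive S.two'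
  haveI := hN
  haveI : IsPretransitive N Ω := IsQuasiPreprimitive.isPretransitive_of_normal (G := G) (by
    intro hfix
    refine h (eq_bot_iff.2 fun n hn => Subgroup.mem_bot.2 ?_)
    refine eq_of_smul_eq_smul (α := Ω) fun x => ?_
    rw [one_smul]
    have : x ∈ fixedPoints N Ω := hfix ▸ Set.mem_univ x
    exact this ⟨n, hn⟩)
  intro x y
  obtain ⟨r, hr⟩ := exists_smul_eq N x y
  exact ⟨r, r.2, hr⟩

theorem regular_of_solvable {N : Subgroup G} (hN : N.Normal) (h : N ≠ ⊥) (hs : Group.IsSolvable N) :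
    HasRegular G Ω := by
  classical
  haveI := hN
  obtain ⟨k₀, hk₀⟩ := (Group.isSolvable_def N).1 hs
  have h0 : derivedSeries N 0 ≠ ⊥ := by
    rw [derivedSeries_zero]
    intro e
    refine h (eq_bot_iff.2 fun n hn => Subgroup.mem_bot.2 ?_)
    have : (⟨n, hn⟩ : N) ∈ (⊥ : Subgroup N) := e ▸ Subgroup.mem_top _
    exact congrArg Subtype.val (Subgroup.mem_bot.1 this)
  obtain ⟨k, hk, hk1⟩ : ∃ k, derivedSeries N k ≠ ⊥ ∧ derivedSeries N (k + 1) = ⊥ := by
    by_contra hcon
    push Not at hcon
    have : ∀ j, derivedSeries N j ≠ ⊥ := fun j => by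
      induction j with
      | zero => exact h0
      | succ j ihj => exact hcon j ihj
    exact this k₀ hk₀
  set A : Subgroup G := (derivedSeries N k).map N.subtype with hA
  have hAn : A.Normal := by
    haveI : (derivedSeries N k).Characteristic := derivedSeries_characteristic _ _
    rw [hA]
    exact ConjAct.normal_of_characteristic_of_normal
  have hAne : A ≠ ⊥ := fun e => hk ((Subgroup.map_eq_bot_iff_of_injective _ N.subtype_injective).1 e)
  have hAc : ∀ x ∈ A, ∀ y ∈ A, x * y = y * x := by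
    rintro _ ⟨x, hx, rfl⟩ _ ⟨y, hy, rfl⟩
    rw [derivedSeries_succ] at hk1
    have h1 := Subgroup.commutator_mem_commutator hx hy
    rw [hk1, Subgroup.mem_bot, commutatorElement_eq_one_iff_mul_comm] at h1
    exact congrArg Subtype.val h1
  have htr := S.normal_transitive hAn hAne
  refine ⟨A, hAn, htr, fun x r hr hrx => eq_of_smul_eq_smul (α := Ω) fun y => ?_⟩
  obtain ⟨s, hs', rfl⟩ := htr x y
  rw [one_smul, ← mul_smul, hAc r hr s hs', mul_smul, hrx]

theorem regular_of_no_four (h1 : i = 1)
    (h4 : ∀ u v : G, u * u = 1 → v * v = 1 → u ≠ 1 → v ≠ 1 → Commute u v → u = v) : HasRegular G Ω := by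
  classical
  subst h1
  haveI : Fact (Nat.Prime 2) := ⟨Nat.prime_two⟩
  let P : Sylow 2 G := default
  have ht : orderOf t = 2 := orderOf_eq_prime (by rw [pow_two, S.sq]) S.ne_one
  have hP : (P : Subgroup G) ≠ ⊥ := P.ne_bot_of_dvd_card (ht ▸ orderOf_dvd_natCard t)
  haveI : Nontrivial P := (Subgroup.nontrivial_iff_ne_bot _).2 hP
  haveI := P.2.center_nontrivial
  obtain ⟨k, hk⟩ := IsPGroup.iff_card.1 (P.2.to_subgroup (Subgroup.center P))
  have h2 : 2 ∣ Nat.card (Subgroup.center P) := by
    rw [hk]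
    refine dvd_pow_self 2 fun e => ?_
    rw [e, pow_zero] at hk
    exact (Finite.one_lt_card (α := Subgroup.center P)).ne' hk
  obtain ⟨z, hz⟩ := exists_prime_orderOf_dvd_card' 2 h2
  set u : G := ((z : P) : G) with hu
  have huo : orderOf u = 2 := by rw [hu, Subgroup.orderOf_coe, Subgroup.orderOf_coe, hz]
  have hu2 : u * u = 1 := by rw [← pow_two, ← huo, pow_orderOf_eq_one]
  have hu1 : u ≠ 1 := fun e => by rw [e, orderOf_one] at huo; omega
  obtain ⟨N, hN, hodd, hcomm⟩ := Cfsg.Agent.S0215.result P u huo (z : P).2 fun g hg => by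
    have hc := congrArg Subtype.val (Subgroup.mem_center_iff.1 z.2 ⟨g * u * g⁻¹, hg⟩)
    refine h4 _ _ ?_ hu2 (fun e => hu1 (conj_eq_one_iff.1 e)) hu1 hc
    rw [show g * u * g⁻¹ * (g * u * g⁻¹) = g * (u * u) * g⁻¹ by group, hu2, mul_one, mul_inv_cancel]
  by_cases hbot : N = ⊥
  · exfalso
    have hcen : ∀ g : G, g * u = u * g := fun g => by
      have := hcomm g
      rw [hbot, Subgroup.mem_bot, mul_inv_eq_one, mul_inv_eq_iff_eq_mul] at this
      exact this.symm
    have hf := (S.of_invol hu2 hu1).fix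
    obtain ⟨hsub, ⟨⟨x, hx⟩⟩⟩ := Nat.card_eq_one_iff_unique.1 hf
    obtain ⟨y, hy⟩ : ∃ y, t • y ≠ y := S.exists_moved
    obtain ⟨g, hg, -⟩ : ∃ g : G, g • x = (if x = y then t • y else y) ∧ True := by
      split_ifs with h
      · exact ⟨t, by rw [h], trivial⟩
      · obtain ⟨g, hg, -⟩ := S.two x y y x h (Ne.symm h)
        exact ⟨g, hg, trivial⟩
    have hgx : u • g • x = g • x := by rw [← mul_smul, ← hcen, mul_smul, hx]
    have := congrArg Subtype.val (hsub.elim (⟨g • x, hgx⟩ : {x : Ω // u • x = x}) ⟨x, hx⟩)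
    change g • x = x at this
    rw [hg] at this
    split_ifs at this with h
    · exact hy (this.trans h)
    · exact h this.symm
  · exact S.regular_of_solvable hN hbot (Cfsg.Agent.S0205.result hodd)

theorem classify_free
    (h3 : ∀ (e : G) (a b c : Ω), a ≠ b → b ≠ c → a ≠ c → e • a = a → e • b = b → e • c = c → e = 1)
    (hreg : ¬ HasRegular G Ω) :
    (∃ (F : Type) (_ : Field F) (_ : Fintype F), Nonempty (G ≃* Matrix.ProjectiveSpecialLinearGroup (Fin 2) F)) ∨
      Cfsg.Lie.IsoSuzuki G := by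
  classical
  haveI := Fintype.ofFinite Ω
  obtain ⟨y, hy⟩ := S.exists_moved
  have hn : 1 < Nat.card Ω := one_lt_card_of_moved hy
  haveI := S.two'
  haveI : IsPretransitive G Ω := isPretransitive_of_is_two_pretransitive
  set a := y with ha
  set b := t • y with hb
  have hab : a ≠ b := Ne.symm hy
  -- a nontrivial element fixes two points
  obtain ⟨d, hd1, da, db⟩ : ∃ d : G, d ≠ 1 ∧ d • a = a ∧ d • b = b := by
    by_contra hcon
    push Not at hcon
    refine hreg ?_
    obtain ⟨p, j, K, -, -, -, hKn, -, -, -, -, hKt, hKs, -⟩ :=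
      CfsgLib.Perm.SharplyTwo.exists_kernel (G := G) (X := Ω) S.two' (by rw [← Nat.card_eq_fintype_card]; omega)
        fun g c e hce hc he => by
          obtain ⟨k, kc, ke⟩ := S.two a b c e hab hce
          by_contra hg
          refine hcon (k⁻¹ * g * k) (fun e' => hg ?_) ?_ ?_
          · rw [show g = k * (k⁻¹ * g * k) * k⁻¹ by group, e']; group
          · rw [mul_smul, mul_smul, kc, hc, inv_smul_eq_iff, kc]
          · rw [mul_smul, mul_smul, ke, he, inv_smul_eq_iff, ke]
    refine ⟨K, hKn, fun x z => ?_, fun x r hr hrx => ?_⟩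
    · obtain ⟨r, hr⟩ := hKt.exists_smul_eq x z
      exact ⟨r, r.2, hr⟩
    · have : (⟨r, hr⟩ : K) ∈ stabilizer K x := hrx
      rw [hKs x, Subgroup.mem_bot] at this
      exact congrArg Subtype.val this
  have hZ : Cfsg.IsZassenhausGroup G Ω := by
    refine ⟨inferInstance, S.two', fun g x y z h1 h2 h3' hx hy hz => h3 g x y z h1 h2 h3' hx hy hz,
      ⟨d, hd1, a, b, hab, da, db⟩, fun N hN hNt => ?_⟩
    by_contra hcon
    push Not at hcon
    refine hreg ⟨N, hN, fun x z => ?_, fun x r hr hrx => ?_⟩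
    · obtain ⟨r, hr⟩ := hNt.exists_smul_eq x z
      exact ⟨r, r.2, hr⟩
    · have : (⟨r, hr⟩ : N) ∈ stabilizer N x := hrx
      rw [hcon x, Subgroup.mem_bot] at this
      exact congrArg Subtype.val this
  haveI : Nontrivial G := ⟨⟨t, 1, S.ne_one⟩⟩
  haveI : IsSimpleGroup G := ⟨fun N hN => by
    refine (em (N = ⊥)).imp id fun hne => ?_
    haveI := hN
    rcases Nat.even_or_odd (Nat.card N) with hev | hodd
    swap
    · exact absurd (S.regular_of_solvable hN hne (Cfsg.Agent.S0205.result hodd)) hreg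
    haveI : Fact (Nat.Prime 2) := ⟨Nat.prime_two⟩
    obtain ⟨v, hv⟩ := exists_prime_orderOf_dvd_card' 2 hev.two_dvd
    have hv' : orderOf (v : G) = 2 := by rw [Subgroup.orderOf_coe, hv]
    have hv2 : (v : G) * v = 1 := by rw [← pow_two, ← hv', pow_orderOf_eq_one]
    have hv1 : (v : G) ≠ 1 := fun e => by rw [e, orderOf_one] at hv'; omega
    have hall : ∀ g : G, IsConj t g → g ∈ N := fun g hg => by
      obtain ⟨k, hk⟩ := isConj_iff.1 ((S.isConj_of_invol hv2 hv1).symm.trans hg)
      rw [← hk]
      exact hN.conj_mem _ v.2 k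
    -- the two point stabilisers lie in `N`
    have hD : ∀ (g : G) (x z : Ω), x ≠ z → g • x = x → g • z = z → g ∈ N := by
      intro g x z hxz hx hz
      obtain ⟨w, hw, wx, wz⟩ := S.exists_conj_swap hxz
      have h1 := hall _ (S.isConj_of_swap (g := w * g) hxz (by rw [mul_smul, hx, wx]) (by rw [mul_smul, hz, wz]))
      have h2 := N.mul_mem (N.inv_mem (hall w hw)) h1
      rwa [inv_mul_cancel_left] at h2
    have hA : stabilizer G a ≤ N := by
      set D := (stabilizer G a ⊓ stabilizer G b : Subgroup G) with hDdef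
      set A := stabilizer G a with hAdef
      have hcD : ∀ x : {x : Ω // x ≠ a},
          Nat.card (stabilizer G a ⊓ stabilizer G x.1 : Subgroup G) = Nat.card D := fun x => by
        obtain ⟨g, ga, gx⟩ := S.two a b a x.1 hab (Ne.symm x.2)
        refine (Nat.card_congr ((MulAut.conj g).toEquiv.subtypeEquiv fun u => ?_)).symm
        show u ∈ stabilizer G a ⊓ stabilizer G b ↔ g * u * g⁻¹ ∈ stabilizer G a ⊓ stabilizer G x.1
        simp only [Subgroup.mem_inf, mem_stabilizer_iff, mul_smul]
        conv_rhs => rw [← gx, inv_smul_eq_iff.2 ga.symm, inv_smul_smul, smul_left_cancel_iff]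
        refine and_congr_left fun _ => ⟨fun h => by rw [h, ga], fun h => ?_⟩
        exact smul_left_cancel g (h.trans ga.symm)
      let ι : Option (Σ x : {x : Ω // x ≠ a},
          {g : (stabilizer G a ⊓ stabilizer G x.1 : Subgroup G) // g ≠ 1}) → (A ⊓ N : Subgroup G) :=
        fun o => o.elim 1 fun q => ⟨q.2.1.1, Subgroup.mem_inf.2 ⟨(Subgroup.mem_inf.1 q.2.1.2).1,
          hD _ a q.1.1 (Ne.symm q.1.2) (Subgroup.mem_inf.1 q.2.1.2).1 (Subgroup.mem_inf.1 q.2.1.2).2⟩⟩
      have hι : Function.Injective ι := by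
        rintro (_ | ⟨x, g, hg⟩) (_ | ⟨z, k, hk⟩) h
        · rfl
        · have e : (k : G) = 1 := (congrArg Subtype.val h).symm
          exact absurd (Subtype.ext e : k = 1) hk
        · have e : (g : G) = 1 := congrArg Subtype.val h
          exact absurd (Subtype.ext e : g = 1) hg
        · have e : (g : G) = k := congrArg Subtype.val h
          have hxz : x = z := by
            by_contra hxz
            refine hg (Subtype.ext (h3 g a x.1 z.1 (Ne.symm x.2) (fun e' => hxz (Subtype.ext e')) (Ne.symm z.2)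
              (Subgroup.mem_inf.1 g.2).1 (Subgroup.mem_inf.1 g.2).2 ?_))
            rw [e]; exact (Subgroup.mem_inf.1 k.2).2
          subst hxz
          obtain rfl : g = k := Subtype.ext e
          rfl
      have hle := Nat.card_le_card_of_injective ι hι
      haveI := Fintype.ofFinite {x : Ω // x ≠ a}
      have hcount : Nat.card (Σ x : {x : Ω // x ≠ a},
          {g : (stabilizer G a ⊓ stabilizer G x.1 : Subgroup G) // g ≠ 1}) =
          (Nat.card Ω - 1) * (Nat.card D - 1) := by
        have h1 : ∀ x : {x : Ω // x ≠ a},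
            Nat.card {g : (stabilizer G a ⊓ stabilizer G x.1 : Subgroup G) // g ≠ 1} = Nat.card D - 1 := by
          intro x
          show Nat.card ↑({1}ᶜ : Set (stabilizer G a ⊓ stabilizer G x.1 : Subgroup G)) = _
          rw [Nat.card_coe_set_eq, Set.ncard_compl, Set.ncard_singleton, hcD x]
        rw [Nat.card_sigma, Finset.sum_congr rfl (fun x _ => h1 x), Finset.sum_const, Finset.card_univ,
          smul_eq_mul, ← Nat.card_eq_fintype_card]
        congr 1
        show Nat.card ↑({a}ᶜ : Set Ω) = _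
        rw [Nat.card_coe_set_eq, Set.ncard_compl, Set.ncard_singleton]
      rw [Finite.card_option, hcount] at hle
      have hAc : Nat.card A = (Nat.card Ω - 1) * Nat.card D := by
        have h1 := A.index_mul_card
        rw [hAdef, index_stabilizer_of_transitive, S.card_group hab] at h1
        exact Nat.eq_of_mul_eq_mul_left (by omega) h1
      have hD2 : 2 ≤ Nat.card D := by
        haveI : Nontrivial D := ⟨⟨⟨d, da, db⟩, 1, fun e => hd1 (congrArg Subtype.val e)⟩⟩
        exact Finite.one_lt_card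
      obtain ⟨m, hm⟩ : Nat.card (A ⊓ N : Subgroup G) ∣ Nat.card A := Subgroup.card_dvd_of_le inf_le_left
      have hm1 : m = 1 := by
        have hA0 : 0 < Nat.card A := Nat.card_pos
        rcases Nat.lt_or_ge m 2 with h | h
        · rcases Nat.eq_zero_or_pos m with h0 | h0
          · rw [h0, mul_zero] at hm; omega
          · omega
        · exfalso
          have h5 : Nat.card (A ⊓ N : Subgroup G) * 2 ≤ Nat.card A := hm ▸ Nat.mul_le_mul_left _ h
          have h6 : (Nat.card Ω - 1) * Nat.card D ≤ 2 * ((Nat.card Ω - 1) * (Nat.card D - 1)) := by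
            rw [Nat.mul_left_comm]
            exact Nat.mul_le_mul_left _ (by omega)
          omega
      rw [hm1, mul_one] at hm
      exact inf_eq_left.1 (Subgroup.eq_of_le_of_card_ge inf_le_left hm.le)
    refine eq_top_iff.2 fun g _ => ?_
    obtain ⟨r, hr, hra⟩ := S.normal_transitive hN hne a (g • a)
    have h1 : r⁻¹ * g ∈ N := hA (by rw [mem_stabilizer_iff, mul_smul, inv_smul_eq_iff, hra])
    have := N.mul_mem hr h1
    rwa [mul_inv_cancel_left] at this⟩
  exact CfsgLib.CIT.SuzukiRecog.zassenhaus_iso hZ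

theorem classify :
    (∃ (F : Type) (_ : Field F) (_ : Fintype F), Nonempty (G ≃* Matrix.ProjectiveSpecialLinearGroup (Fin 2) F)) ∨
      Cfsg.Lie.IsoSuzuki G ∨ HasRegular G Ω := by
  by_cases hreg : HasRegular G Ω
  · exact Or.inr (Or.inr hreg)
  have hi : i ≤ 2 := by
    by_contra h
    have := S.i_le_two (by omega)
    omega
  rcases S.semiregular hi with h3 | ⟨h1, h4⟩
  · exact (S.classify_free h3 hreg).imp_right Or.inl
  · exact absurd (S.regular_of_no_four h1 h4) hreg

end Raw

end CfsgLib.LocalEvenB.ConstFix
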