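import Mathlib

/-!
Owner: helper20. A doubly transitive group with an involution `t` such that every nontrivial element
centralising `t` fixes as many points as `t`: the centraliser has order `n - i`, every element
swapping two points is a conjugate of `t` and two point stabilisers are abelian.
-/

set_option autoImplicit false
set_option linter.all false

namespace CfsgLib.LocalEvenB.ConstFix

open MulAction

/-- The number of fixed points. -/
noncomputable def nf {G : Type*} (Ω : Type*) [Group G] [MulAction G Ω] (g : G) : ℕ :=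
  Nat.card {x : Ω // g • x = x}

/-- The setup. -/
structure Raw (G Ω : Type*) [Group G] [MulAction G Ω] (i : ℕ) (t : G) : Prop where
  two : ∀ a b c d : Ω, a ≠ b → c ≠ d → ∃ g : G, g • a = c ∧ g • b = d
  sq : t * t = 1
  ne_one : t ≠ 1
  fix : nf Ω t = i
  const : ∀ g : G, Commute g t → g ≠ 1 → nf Ω g = i

section General

variable {G Ω : Type*} [Group G] [MulAction G Ω]

theorem nf_conj (g x : G) : nf Ω (g * x * g⁻¹) = nf Ω x := by
  refine (Nat.card_congr ?_).symm
  refine (MulAction.toPerm g).subtypeEquiv fun y => ?_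
  show x • y = y ↔ (g * x * g⁻¹) • g • y = g • y
  rw [mul_smul, mul_smul, inv_smul_smul]
  exact ⟨fun h => by rw [h], fun h => smul_left_cancel g h⟩

theorem one_lt_card_of_moved [Finite Ω] {g : G} {x : Ω} (h : g • x ≠ x) : 1 < Nat.card Ω := by
  haveI : Nontrivial Ω := ⟨⟨_, _, h⟩⟩
  exact Finite.one_lt_card

theorem card_moved [Finite Ω] (g : G) :
    nf Ω g + Nat.card {x : Ω // g • x ≠ x} = Nat.card Ω := by
  classical
  rw [nf, ← Nat.card_sum]
  exact Nat.card_congr (Equiv.sumCompl _)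

/-- Double counting of fixed points. -/
theorem sum_nf [Finite G] (C : Subgroup G) [Fintype C] [Fintype Ω] :
    ∑ g : C, nf Ω (g : G) = ∑ x : Ω, Nat.card (C ⊓ stabilizer G x : Subgroup G) := by
  classical
  have h1 : Nat.card (Σ g : C, {x : Ω // (g : G) • x = x}) =
      Nat.card (Σ x : Ω, (C ⊓ stabilizer G x : Subgroup G)) :=
    Nat.card_congr
      { toFun := fun p => ⟨p.2.1, ⟨p.1.1, Subgroup.mem_inf.2 ⟨p.1.2, p.2.2⟩⟩⟩
        invFun := fun p => ⟨⟨p.2.1, (Subgroup.mem_inf.1 p.2.2).1⟩, ⟨p.1, (Subgroup.mem_inf.1 p.2.2).2⟩⟩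
        left_inv := fun _ => rfl
        right_inv := fun _ => rfl }
  rwa [Nat.card_sigma, Nat.card_sigma] at h1

/-- Burnside's lemma. -/
theorem sum_nf_orbits (C : Subgroup G) [Fintype C] [Fintype Ω] :
    ∃ k, ∑ g : C, nf Ω (g : G) = k * Nat.card C := by
  classical
  haveI : Fintype (Quotient (orbitRel C Ω)) := Fintype.ofFinite _
  refine ⟨Fintype.card (Quotient (orbitRel C Ω)), ?_⟩
  rw [Nat.card_eq_fintype_card, ← sum_card_fixedBy_eq_card_orbits_mul_card_group C Ω]
  refine Finset.sum_congr rfl fun g _ => ?_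
  rw [nf, ← Nat.card_eq_fintype_card]
  rfl

/-- The size of a conjugacy class. -/
theorem card_class [Finite G] (t : G) :
    Nat.card {u : G | IsConj t u} * Nat.card (Subgroup.centralizer ({t} : Set G)) = Nat.card G := by
  let _ : MulAction (⊤ : Subgroup G) G :=
    MulAction.compHom G ((MulAut.conj (G := G)).comp (⊤ : Subgroup G).subtype)
  have hsm : ∀ (g : (⊤ : Subgroup G)) (u : G), g • u = (g : G) * u * (g : G)⁻¹ := fun _ _ => rfl
  have e1 : orbit (⊤ : Subgroup G) t = {u : G | IsConj t u} := by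
    ext u
    constructor
    · rintro ⟨g, rfl⟩; exact isConj_iff.2 ⟨_, (hsm g t).symm⟩
    · intro hu
      obtain ⟨g, hg⟩ := isConj_iff.1 hu
      exact ⟨⟨g, Subgroup.mem_top g⟩, (hsm _ t).trans hg⟩
  have e2 : stabilizer (⊤ : Subgroup G) t =
      (Subgroup.centralizer ({t} : Set G)).subgroupOf ⊤ := by
    ext g
    rw [mem_stabilizer_iff, hsm, Subgroup.mem_subgroupOf, Subgroup.mem_centralizer_singleton_iff,
      mul_inv_eq_iff_eq_mul]
  have := Nat.card_congr (orbitProdStabilizerEquivGroup (⊤ : Subgroup G) t)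
  rwa [Nat.card_prod, e1, e2, Subgroup.card_top,
    Nat.card_congr (Subgroup.subgroupOfEquivOfLe le_top).toEquiv] at this

end General

namespace Raw

variable {G Ω : Type*} [Group G] [MulAction G Ω] [Finite G] [Finite Ω] [FaithfulSMul G Ω] {i : ℕ}
  {t : G} (S : Raw G Ω i t)
include S

theorem exists_moved : ∃ x : Ω, t • x ≠ x := by
  by_contra h
  push Not at h
  exact S.ne_one (eq_of_smul_eq_smul (α := Ω) fun x => by rw [one_smul]; exact h x)

theorem lt_card : i < Nat.card Ω := by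
  obtain ⟨x, hx⟩ := S.exists_moved
  have h := card_moved (Ω := Ω) t
  rw [S.fix] at h
  haveI : Nonempty {x : Ω // t • x ≠ x} := ⟨⟨x, hx⟩⟩
  have : 0 < Nat.card {x : Ω // t • x ≠ x} := Nat.card_pos
  omega

theorem sum_cent [Fintype Ω] [Fintype (Subgroup.centralizer ({t} : Set G))] :
    ∑ g : Subgroup.centralizer ({t} : Set G), nf Ω (g : G) =
      Nat.card Ω + (Nat.card (Subgroup.centralizer ({t} : Set G)) - 1) * i := by
  classical
  rw [← Finset.add_sum_erase _ _ (Finset.mem_univ (1 : Subgroup.centralizer ({t} : Set G)))]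
  refine congrArg₂ (· + ·) ?_ ?_
  · rw [nf]
    exact Nat.card_congr (Equiv.subtypeUnivEquiv fun x => by simp)
  · rw [Finset.sum_congr rfl (g := fun _ => i) (fun g hg => ?_), Finset.sum_const,
      Finset.card_erase_of_mem (Finset.mem_univ _), Finset.card_univ, smul_eq_mul,
      ← Nat.card_eq_fintype_card]
    refine S.const _ (Subgroup.mem_centralizer_singleton_iff.1 g.2) fun h => ?_
    exact (Finset.mem_erase.1 hg).1 (Subtype.ext h)

theorem card_cent_dvd : Nat.card (Subgroup.centralizer ({t} : Set G)) ∣ Nat.card Ω - i := by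
  classical
  haveI := Fintype.ofFinite Ω
  haveI := Fintype.ofFinite (Subgroup.centralizer ({t} : Set G))
  obtain ⟨k, hk⟩ := sum_nf_orbits (Ω := Ω) (Subgroup.centralizer ({t} : Set G))
  rw [S.sum_cent] at hk
  have hc : 0 < Nat.card (Subgroup.centralizer ({t} : Set G)) := Nat.card_pos
  have hi := S.lt_card
  refine ⟨k - i, ?_⟩
  generalize Nat.card (Subgroup.centralizer ({t} : Set G)) = c at hk hc ⊢
  generalize Nat.card Ω = n at hk hi ⊢
  obtain ⟨c, rfl⟩ : ∃ c', c = c' + 1 := ⟨c - 1, by omega⟩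
  rw [Nat.add_sub_cancel] at hk
  rw [Nat.mul_sub, mul_comm (c + 1) k, ← hk]
  have : (c + 1) * i = c * i + i := by ring
  omega

theorem card_group {a b : Ω} (hab : a ≠ b) :
    Nat.card G = Nat.card Ω * ((Nat.card Ω - 1) *
      Nat.card (stabilizer G a ⊓ stabilizer G b : Subgroup G)) := by
  classical
  haveI : IsPretransitive G Ω := by
    refine ⟨fun x y => ?_⟩
    by_cases hxy : x = y
    · exact ⟨1, by rw [one_smul, hxy]⟩
    · obtain ⟨g, hg, -⟩ := S.two x y y x hxy (Ne.symm hxy)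
      exact ⟨g, hg⟩
  have h1 := (stabilizer G a).index_mul_card
  rw [index_stabilizer_of_transitive] at h1
  have hsub : (stabilizer G a ⊓ stabilizer G b : Subgroup G).subgroupOf (stabilizer G a) =
      stabilizer (stabilizer G a) b := by
    ext g
    exact ⟨fun h => (Subgroup.mem_inf.1 h).2, fun h => Subgroup.mem_inf.2 ⟨g.2, h⟩⟩
  have horb : orbit (stabilizer G a) b = {a}ᶜ := by
    ext x
    constructor
    · rintro ⟨g, rfl⟩ (e : (g : G) • b = a)
      exact hab (smul_left_cancel (g : G) (e.trans (g.2 : (g : G) • a = a).symm).symm)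
    · intro hx
      obtain ⟨g, ga, gb⟩ := S.two a b a x hab (Ne.symm hx)
      exact ⟨⟨g, ga⟩, gb⟩
  have h2 := (stabilizer (stabilizer G a) b).index_mul_card
  rw [index_stabilizer, horb, Set.ncard_compl, Set.ncard_singleton, ← hsub,
    Nat.card_congr (Subgroup.subgroupOfEquivOfLe inf_le_left).toEquiv] at h2
  rw [← h1, ← h2]

/-- The conjugates of `t` swapping two points. -/
def swp (t : G) (x y : Ω) : Set G := {u | IsConj t u ∧ u • x = y}

omit S in
theorem swp_back {x y : Ω} {u : G} (h : t * t = 1) (hu : u ∈ swp t x y) : u • y = x := by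
  obtain ⟨g, hg⟩ := isConj_iff.1 hu.1
  have h2 : u * u = 1 := by
    rw [← hg, show g * t * g⁻¹ * (g * t * g⁻¹) = g * (t * t) * g⁻¹ by group, h, mul_one, mul_inv_cancel]
  rw [← hu.2, ← mul_smul, h2, one_smul]

theorem card_swp_eq {x y x' y' : Ω} (h : x ≠ y) (h' : x' ≠ y') :
    Nat.card (swp t x y) = Nat.card (swp t x' y') := by
  obtain ⟨g, gx, gy⟩ := S.two x y x' y' h h'
  refine Nat.card_congr ((MulAut.conj g).toEquiv.subtypeEquiv fun u => ?_)
  show IsConj t u ∧ u • x = y ↔ IsConj t (g * u * g⁻¹) ∧ (g * u * g⁻¹) • x' = y'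
  refine and_congr ⟨fun hu => hu.trans (isConj_iff.2 ⟨g, rfl⟩), fun hu => hu.trans (isConj_iff.2 ⟨g⁻¹, by group⟩)⟩ ?_
  rw [← gx, ← gy, mul_smul, mul_smul, inv_smul_smul]
  exact ⟨fun h => by rw [h], fun h => smul_left_cancel g h⟩

omit S in
theorem card_swp_le {a b : Ω} (h : t * t = 1) :
    Nat.card (swp t a b) ≤ Nat.card (stabilizer G a ⊓ stabilizer G b : Subgroup G) := by
  rcases isEmpty_or_nonempty (swp t a b) with h' | ⟨u₀, hu₀⟩
  · simp
  refine Nat.card_le_card_of_injective (fun u => ⟨u₀⁻¹ * u.1, Subgroup.mem_inf.2 ⟨?_, ?_⟩⟩)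
    fun u v e => Subtype.ext (mul_left_cancel (congrArg Subtype.val e :))
  · rw [mem_stabilizer_iff, mul_smul, u.2.2, inv_smul_eq_iff, hu₀.2]
  · rw [mem_stabilizer_iff, mul_smul, swp_back h u.2, inv_smul_eq_iff, swp_back h hu₀]

/-- **The count.** -/
theorem card_eq {a b : Ω} (hab : a ≠ b) :
    Nat.card (Subgroup.centralizer ({t} : Set G)) = Nat.card Ω - i ∧
      Nat.card (swp t a b) = Nat.card (stabilizer G a ⊓ stabilizer G b : Subgroup G) := by
  classical
  haveI := Fintype.ofFinite Ω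
  set T : Set G := {u | IsConj t u} with hT
  haveI := Fintype.ofFinite T
  have hTC : Nat.card T * Nat.card (Subgroup.centralizer ({t} : Set G)) = Nat.card G := card_class t
  -- the moved pairs
  have hmv : ∀ u : T, Nat.card {x : Ω // u.1 • x ≠ x} = Nat.card Ω - i := fun u => by
    have h := card_moved (Ω := Ω) u.1
    obtain ⟨g, hg⟩ := isConj_iff.1 (u.2 : IsConj t u.1)
    rw [show nf Ω u.1 = i by rw [← hg, nf_conj, S.fix]] at h
    omega
  have hA1 : Nat.card (Σ u : T, {x : Ω // u.1 • x ≠ x}) = Nat.card T * (Nat.card Ω - i) := by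
    rw [Nat.card_sigma, Finset.sum_congr rfl (g := fun _ => Nat.card Ω - i) (fun u _ => hmv u),
      Finset.sum_const, Finset.card_univ, smul_eq_mul, ← Nat.card_eq_fintype_card]
  have hA2 : Nat.card (Σ u : T, {x : Ω // u.1 • x ≠ x}) =
      Nat.card {p : Ω × Ω // p.1 ≠ p.2} * Nat.card (swp t a b) := by
    have e : (Σ u : T, {x : Ω // u.1 • x ≠ x}) ≃ Σ p : {p : Ω × Ω // p.1 ≠ p.2}, swp t p.1.1 p.1.2 :=
      { toFun := fun q => ⟨⟨(q.2.1, q.1.1 • q.2.1), Ne.symm q.2.2⟩, ⟨q.1.1, q.1.2, rfl⟩⟩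
        invFun := fun p => ⟨⟨p.2.1, p.2.2.1⟩, ⟨p.1.1.1, fun h => p.1.2 (h.symm.trans p.2.2.2)⟩⟩
        left_inv := fun _ => rfl
        right_inv := by
          rintro ⟨⟨⟨x, y⟩, hxy⟩, ⟨u, hu, he⟩⟩
          change u • x = y at he
          subst he
          rfl }
    rw [Nat.card_congr e, Nat.card_sigma, Finset.sum_congr rfl (g := fun _ => Nat.card (swp t a b))
      (fun p _ => S.card_swp_eq p.2 hab), Finset.sum_const, Finset.card_univ, smul_eq_mul,
      ← Nat.card_eq_fintype_card]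
  have hpairs : Nat.card {p : Ω × Ω // p.1 ≠ p.2} = Nat.card Ω * (Nat.card Ω - 1) := by
    have e : {p : Ω × Ω // p.1 ≠ p.2} ≃ Σ x : Ω, {y : Ω // y ≠ x} :=
      { toFun := fun p => ⟨p.1.1, ⟨p.1.2, Ne.symm p.2⟩⟩
        invFun := fun q => ⟨(q.1, q.2.1), Ne.symm q.2.2⟩
        left_inv := fun _ => rfl
        right_inv := fun _ => rfl }
    have hx : ∀ x : Ω, Nat.card {y : Ω // y ≠ x} = Nat.card Ω - 1 := fun x => by
      show Nat.card ↑({x}ᶜ : Set Ω) = _
      rw [Nat.card_coe_set_eq, Set.ncard_compl, Set.ncard_singleton]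
    rw [Nat.card_congr e, Nat.card_sigma, Finset.sum_congr rfl (g := fun _ => Nat.card Ω - 1)
      (fun x _ => hx x), Finset.sum_const, Finset.card_univ, smul_eq_mul, ← Nat.card_eq_fintype_card]
  have hG := S.card_group hab
  have hle := card_swp_le (a := a) (b := b) S.sq
  have hdvd := S.card_cent_dvd
  have hi := S.lt_card
  have hn : 1 < Nat.card Ω := by
    haveI : Nontrivial Ω := ⟨⟨a, b, hab⟩⟩
    exact Finite.one_lt_card
  rw [hA2, hpairs] at hA1
  have hc0 : 0 < Nat.card (Subgroup.centralizer ({t} : Set G)) := Nat.card_pos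
  have hd0 : 0 < Nat.card (stabilizer G a ⊓ stabilizer G b : Subgroup G) := Nat.card_pos
  have key : Nat.card (swp t a b) * Nat.card (Subgroup.centralizer ({t} : Set G)) =
      Nat.card (stabilizer G a ⊓ stabilizer G b : Subgroup G) * (Nat.card Ω - i) := by
    have h : Nat.card Ω * (Nat.card Ω - 1) *
        (Nat.card (swp t a b) * Nat.card (Subgroup.centralizer ({t} : Set G))) =
      Nat.card Ω * (Nat.card Ω - 1) *
        (Nat.card (stabilizer G a ⊓ stabilizer G b : Subgroup G) * (Nat.card Ω - i)) := by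
      calc _ = (Nat.card Ω * (Nat.card Ω - 1) * Nat.card (swp t a b)) *
            Nat.card (Subgroup.centralizer ({t} : Set G)) := by ring
        _ = (Nat.card T * Nat.card (Subgroup.centralizer ({t} : Set G))) * (Nat.card Ω - i) := by
            rw [hA1]; ring
        _ = _ := by rw [hTC, hG]; ring
    exact Nat.eq_of_mul_eq_mul_left (Nat.mul_pos (by omega) (by omega)) h
  have hpos : 0 < Nat.card Ω - i := by omega
  have hcle := Nat.le_of_dvd hpos hdvd
  have h1 : Nat.card (Subgroup.centralizer ({t} : Set G)) = Nat.card Ω - i := by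
    refine le_antisymm hcle ?_
    refine Nat.le_of_mul_le_mul_left ?_ hd0
    rw [← key]
    exact Nat.mul_le_mul_right _ hle
  refine ⟨h1, ?_⟩
  rw [h1] at key
  exact Nat.eq_of_mul_eq_mul_right hpos key

theorem exists_conj_swap {x y : Ω} (h : x ≠ y) : ∃ u : G, IsConj t u ∧ u • x = y ∧ u • y = x := by
  have h1 := (S.card_eq h).2
  have : 0 < Nat.card (swp t x y) := h1 ▸ Nat.card_pos
  obtain ⟨⟨u, hu⟩⟩ := (Nat.card_pos_iff.1 this).1
  exact ⟨u, hu.1, hu.2, swp_back S.sq hu⟩

/-- Every element swapping two points is a conjugate of `t`. -/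
theorem isConj_of_swap {g : G} {x y : Ω} (h : x ≠ y) (gx : g • x = y) (gy : g • y = x) :
    IsConj t g := by
  classical
  obtain ⟨u₀, hu₀, ux, uy⟩ := S.exists_conj_swap h
  let f : swp t x y → (stabilizer G x ⊓ stabilizer G y : Subgroup G) := fun u =>
    ⟨u₀⁻¹ * u.1, Subgroup.mem_inf.2
      ⟨by rw [mem_stabilizer_iff, mul_smul, u.2.2, inv_smul_eq_iff, ux],
       by rw [mem_stabilizer_iff, mul_smul, swp_back S.sq u.2, inv_smul_eq_iff, uy]⟩⟩
  have hf : Function.Bijective f := (Nat.bijective_iff_injective_and_card f).2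
    ⟨fun u v e => Subtype.ext (mul_left_cancel (congrArg Subtype.val e :)), (S.card_eq h).2⟩
  obtain ⟨u, hu⟩ := hf.2 ⟨u₀⁻¹ * g, Subgroup.mem_inf.2
    ⟨by rw [mem_stabilizer_iff, mul_smul, gx, inv_smul_eq_iff, ux],
     by rw [mem_stabilizer_iff, mul_smul, gy, inv_smul_eq_iff, uy]⟩⟩
  have e : u₀⁻¹ * u.1 = u₀⁻¹ * g := congrArg Subtype.val hu
  rw [← mul_left_cancel e]
  exact u.2.1

theorem isConj_of_invol {u : G} (h2 : u * u = 1) (h1 : u ≠ 1) : IsConj t u := by
  obtain ⟨x, hx⟩ : ∃ x : Ω, u • x ≠ x := by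
    by_contra h
    push Not at h
    exact h1 (eq_of_smul_eq_smul (α := Ω) fun x => by rw [one_smul]; exact h x)
  exact S.isConj_of_swap (Ne.symm hx) rfl (by rw [← mul_smul, h2, one_smul])

theorem of_invol {u : G} (h2 : u * u = 1) (h1 : u ≠ 1) : Raw G Ω i u := by
  obtain ⟨g, rfl⟩ := isConj_iff.1 (S.isConj_of_invol h2 h1)
  refine ⟨S.two, h2, h1, by rw [nf_conj, S.fix], fun x hx hx1 => ?_⟩
  have hc : Commute (g⁻¹ * x * g) t := by
    have e : g⁻¹ * x * g * t = g⁻¹ * (x * (g * t * g⁻¹)) * g := by group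
    show g⁻¹ * x * g * t = t * (g⁻¹ * x * g)
    rw [e, hx.eq]
    group
  have hne : g⁻¹ * x * g ≠ 1 := fun e => hx1 (by
    rw [show x = g * (g⁻¹ * x * g) * g⁻¹ by group, e]; group)
  rw [← S.const _ hc hne, ← nf_conj g (g⁻¹ * x * g)]
  congr 1
  group

theorem swap_sq {g : G} {x y : Ω} (h : x ≠ y) (gx : g • x = y) (gy : g • y = x) : g * g = 1 := by
  obtain ⟨k, rfl⟩ := isConj_iff.1 (S.isConj_of_swap h gx gy)
  rw [show k * t * k⁻¹ * (k * t * k⁻¹) = k * (t * t) * k⁻¹ by group, S.sq, mul_one, mul_inv_cancel]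

theorem inverts {g d : G} {x y : Ω} (h : x ≠ y) (gx : g • x = y) (gy : g • y = x) (dx : d • x = x)
    (dy : d • y = y) : g * d * g⁻¹ = d⁻¹ := by
  have h1 := S.swap_sq h gx gy
  have h2 := S.swap_sq (g := g * d) h (by rw [mul_smul, dx, gx]) (by rw [mul_smul, dy, gy])
  rw [inv_eq_of_mul_eq_one_right h1]
  refine eq_inv_of_mul_eq_one_left ?_
  calc g * d * g * d = g * d * (g * d) := by group
    _ = 1 := h2

theorem comm {d e : G} {x y : Ω} (h : x ≠ y) (dx : d • x = x) (dy : d • y = y) (ex : e • x = x)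
    (ey : e • y = y) : Commute d e := by
  obtain ⟨g, -, gx, gy⟩ := S.exists_conj_swap h
  have h1 := S.inverts h gx gy (d := d * e) (by rw [mul_smul, ex, dx]) (by rw [mul_smul, ey, dy])
  rw [show g * (d * e) * g⁻¹ = (g * d * g⁻¹) * (g * e * g⁻¹) by group, S.inverts h gx gy dx dy,
    S.inverts h gx gy ex ey, mul_inv_rev] at h1
  have h2 := congrArg (·⁻¹) h1
  simp only [mul_inv_rev, inv_inv] at h2
  exact h2.symm

end Raw

end CfsgLib.LocalEvenB.ConstFix
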