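import Cfsg.Agent.Lib.LocalEvenB.ConstFix.Count
import Cfsg.Agent.Lib.Bender.Main
import Cfsg.Agent.S0205

/-!
Owner: helper20. Constant fixity at least two: the involutions of a two point stabiliser form a group
of order `i`, the fixed point sets are the lines of a design, and `i = 2`.
-/

set_option autoImplicit false
set_option linter.all false

namespace CfsgLib.LocalEvenB.ConstFix

open MulAction
open scoped Pointwise

universe u v

namespace Raw

variable {G : Type u} {Ω : Type v} [Group G] [MulAction G Ω] [Finite G] [Finite Ω] [FaithfulSMul G Ω]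
  {i : ℕ} {t : G} (S : Raw G Ω i t)
include S

theorem inv_eq_self {g : G} (h : g * g = 1) : g⁻¹ = g := inv_eq_of_mul_eq_one_right h

theorem conj_fix {g x : G} {c : Ω} (h : x • c = c) : (g * x * g⁻¹) • g • c = g • c := by
  rw [mul_smul, mul_smul, inv_smul_smul, h]

/-- The elements of order at most two of a two point stabiliser. -/
def sqOne (S : Raw G Ω i t) {a b : Ω} (hab : a ≠ b) : Subgroup G where
  carrier := {g | g • a = a ∧ g • b = b ∧ g * g = 1}
  one_mem' := ⟨one_smul _ _, one_smul _ _, one_mul _⟩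
  mul_mem' := by
    rintro x y ⟨xa, xb, x2⟩ ⟨ya, yb, y2⟩
    refine ⟨by rw [mul_smul, ya, xa], by rw [mul_smul, yb, xb], ?_⟩
    rw [mul_assoc x y, ← mul_assoc y, ← (S.comm hab xa xb ya yb).eq, mul_assoc x y y, y2, mul_one, x2]
  inv_mem' := by
    rintro x ⟨xa, xb, x2⟩
    exact ⟨inv_smul_eq_iff.2 xa.symm, inv_smul_eq_iff.2 xb.symm, by rw [← mul_inv_rev, x2, inv_one]⟩

theorem card_sqOne {a b c d : Ω} (hab : a ≠ b) (hcd : c ≠ d) :
    Nat.card (S.sqOne hab) = Nat.card (S.sqOne hcd) := by
  obtain ⟨g, gc, gd⟩ := S.two a b c d hab hcd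
  refine Nat.card_congr ((MulAut.conj g).toEquiv.subtypeEquiv fun x => ?_)
  show (x • a = a ∧ x • b = b ∧ x * x = 1) ↔
    (g * x * g⁻¹) • c = c ∧ (g * x * g⁻¹) • d = d ∧ g * x * g⁻¹ * (g * x * g⁻¹) = 1
  rw [← gc, ← gd, mul_smul, mul_smul, mul_smul, mul_smul, inv_smul_smul, inv_smul_smul, smul_left_cancel_iff,
    smul_left_cancel_iff, show g * x * g⁻¹ * (g * x * g⁻¹) = g * (x * x) * g⁻¹ by group,
    mul_inv_eq_one, mul_eq_left]

/-- A centralising element stabilising a moved point is an involution. -/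
theorem cent_inf_stab {x : Ω} (hx : t • x ≠ x) :
    (Subgroup.centralizer ({t} : Set G) ⊓ stabilizer G x : Subgroup G) = S.sqOne (Ne.symm hx) := by
  have htx : t • t • x = x := by rw [← mul_smul, S.sq, one_smul]
  ext g
  constructor
  · rintro ⟨hc, hg⟩
    have hgx : g • x = x := hg
    have hc' : g * t = t * g := Subgroup.mem_centralizer_singleton_iff.1 hc
    have hgt : g • t • x = t • x := by rw [← mul_smul, hc', mul_smul, hgx]
    refine ⟨hgx, hgt, ?_⟩
    have h1 := S.inverts (Ne.symm hx) rfl htx hgx hgt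
    rw [← hc', mul_inv_cancel_right] at h1
    exact mul_eq_one_iff_eq_inv.2 h1
  · rintro ⟨hgx, hgt, hg2⟩
    refine ⟨Subgroup.mem_centralizer_singleton_iff.2 ?_, hgx⟩
    have h1 := S.inverts (Ne.symm hx) rfl htx hgx hgt
    rw [inv_eq_self S hg2, mul_inv_eq_iff_eq_mul] at h1
    exact h1.symm

/-- `D` of two fixed points centralises `t`, and some centralising element moves one to the other. -/
theorem cent_move {x y : Ω} (hx : t • x = x) (hy : t • y = y) :
    ∃ g ∈ Subgroup.centralizer ({t} : Set G), g • x = y := by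
  by_cases h : x = y
  · exact ⟨1, one_mem _, by rw [one_smul, h]⟩
  obtain ⟨w, -, wx, wy⟩ := S.exists_conj_swap h
  refine ⟨w, Subgroup.mem_centralizer_singleton_iff.2 ?_, wx⟩
  have h1 := S.inverts h wx wy hx hy
  rw [inv_eq_self S S.sq, mul_inv_eq_iff_eq_mul] at h1
  exact h1

theorem card_cent_stab {x : Ω} (hx : t • x = x) :
    i * Nat.card (Subgroup.centralizer ({t} : Set G) ⊓ stabilizer G x : Subgroup G) =
      Nat.card (Subgroup.centralizer ({t} : Set G)) := by
  set C := Subgroup.centralizer ({t} : Set G)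
  have horb : orbit C x = {y | t • y = y} := by
    ext y
    constructor
    · rintro ⟨g, rfl⟩
      show t • (g : G) • x = (g : G) • x
      rw [← mul_smul, ← Subgroup.mem_centralizer_singleton_iff.1 g.2, mul_smul, hx]
    · intro hy
      obtain ⟨g, hg, e⟩ := S.cent_move hx hy
      exact ⟨⟨g, hg⟩, e⟩
  have hsub : (C ⊓ stabilizer G x : Subgroup G).subgroupOf C = stabilizer C x := by
    ext g
    exact ⟨fun h => (Subgroup.mem_inf.1 h).2, fun h => Subgroup.mem_inf.2 ⟨g.2, h⟩⟩
  have h := (stabilizer C x).index_mul_card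
  rw [index_stabilizer, horb, ← Nat.card_coe_set_eq, ← hsub,
    Nat.card_congr (Subgroup.subgroupOfEquivOfLe inf_le_left).toEquiv] at h
  rw [← h, ← S.fix]
  rfl

/-- The involutions with `1` in a two point stabiliser number `i`. -/
theorem card_sqOne_eq (h2 : 2 ≤ i) {a b : Ω} (hab : a ≠ b) : Nat.card (S.sqOne hab) = i := by
  classical
  haveI := Fintype.ofFinite Ω
  haveI := Fintype.ofFinite (Subgroup.centralizer ({t} : Set G))
  set C := Subgroup.centralizer ({t} : Set G) with hC
  set m := Nat.card (S.sqOne hab) with hm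
  have h := sum_nf (Ω := Ω) C
  rw [S.sum_cent, ← hC, ← Finset.sum_filter_add_sum_filter_not Finset.univ (fun x : Ω => t • x = x)] at h
  have hout : ∀ x : Ω, t • x ≠ x → Nat.card (C ⊓ stabilizer G x : Subgroup G) = m := fun x hx => by
    rw [hC, S.cent_inf_stab hx]
    exact S.card_sqOne _ hab
  have hFc : (Finset.univ.filter (fun x : Ω => t • x = x)).card = i := by
    rw [← S.fix, nf, Nat.card_eq_fintype_card, Fintype.card_subtype]
  have hOc : (Finset.univ.filter (fun x : Ω => ¬ t • x = x)).card = Nat.card Ω - i := by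
    have := Finset.card_filter_add_card_filter_not (s := (Finset.univ : Finset Ω)) (fun x : Ω => t • x = x)
    rw [hFc, Finset.card_univ] at this
    rw [Nat.card_eq_fintype_card]
    omega
  rw [Finset.sum_congr rfl (g := fun _ => m) (fun x hx => hout x (Finset.mem_filter.1 hx).2),
    Finset.sum_const, hOc, smul_eq_mul] at h
  have hin : i * ∑ x ∈ Finset.univ.filter (fun x : Ω => t • x = x),
      Nat.card (C ⊓ stabilizer G x : Subgroup G) = i * Nat.card C := by
    rw [Finset.mul_sum, Finset.sum_congr rfl (g := fun _ => Nat.card C)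
      (fun x hx => S.card_cent_stab (Finset.mem_filter.1 hx).2), Finset.sum_const, hFc, smul_eq_mul]
  rw [Nat.eq_of_mul_eq_mul_left (by omega) hin] at h
  have hc := (S.card_eq hab).1
  have hlt := S.lt_card
  rw [← hC] at hc
  rw [hc] at h
  generalize Nat.card Ω = n at h hlt
  obtain ⟨k, rfl⟩ : ∃ k, n = i + (k + 1) := ⟨n - i - 1, by omega⟩
  rw [Nat.add_sub_cancel_left, Nat.add_sub_cancel] at h
  have hk : (k + 1) * i = (k + 1) * m := by linarith
  exact (Nat.eq_of_mul_eq_mul_left (Nat.succ_pos k) hk).symm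

/-- Counting involutions with their fixed pairs. -/
theorem pair_count {a b : Ω} (hab : a ≠ b) :
    Nat.card (stabilizer G a ⊓ stabilizer G b : Subgroup G) * (i * (i - 1)) =
      (Nat.card (S.sqOne hab) - 1) * (Nat.card Ω - i) := by
  classical
  haveI := Fintype.ofFinite Ω
  set T : Set G := {u | IsConj t u} with hT
  haveI := Fintype.ofFinite T
  have hTinv : ∀ u : T, u.1 * u.1 = 1 ∧ u.1 ≠ 1 := fun u => by
    obtain ⟨g, hg⟩ := isConj_iff.1 (u.2 : IsConj t u.1)
    refine ⟨?_, fun e => S.ne_one ?_⟩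
    · rw [← hg, show g * t * g⁻¹ * (g * t * g⁻¹) = g * (t * t) * g⁻¹ by group, S.sq, mul_one, mul_inv_cancel]
    · rw [show t = g⁻¹ * (g * t * g⁻¹) * g by group, hg, e]; group
  -- the pairs in the fixed point set of an involution
  let P : T → Type v := fun u => {p : {p : Ω × Ω // p.1 ≠ p.2} // u.1 • p.1.1 = p.1.1 ∧ u.1 • p.1.2 = p.1.2}
  have hP : ∀ u : T, Nat.card (P u) = i * (i - 1) := fun u => by
    have hfix : nf Ω u.1 = i := (S.of_invol (hTinv u).1 (hTinv u).2).fix
    let e : P u ≃ Σ x : {x : Ω // u.1 • x = x}, {y : {x : Ω // u.1 • x = x} // y ≠ x} :=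
      { toFun := fun p => ⟨⟨p.1.1.1, p.2.1⟩, ⟨⟨p.1.1.2, p.2.2⟩, fun e => p.1.2 (congrArg Subtype.val e).symm⟩⟩
        invFun := fun q => ⟨⟨(q.1.1, q.2.1.1), fun e => q.2.2 (Subtype.ext e.symm)⟩, q.1.2, q.2.1.2⟩
        left_inv := fun _ => rfl
        right_inv := fun _ => rfl }
    have hy : ∀ x : {x : Ω // u.1 • x = x}, Nat.card {y : {x : Ω // u.1 • x = x} // y ≠ x} = i - 1 := fun x => by
      show Nat.card ↑({x}ᶜ : Set {x : Ω // u.1 • x = x}) = _
      rw [Nat.card_coe_set_eq, Set.ncard_compl, Set.ncard_singleton]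
      exact congrArg (· - 1) hfix
    rw [Nat.card_congr e, Nat.card_sigma, Finset.sum_congr rfl (g := fun _ => i - 1) (fun x _ => hy x),
      Finset.sum_const, Finset.card_univ, smul_eq_mul, ← Nat.card_eq_fintype_card]
    exact congrArg (· * (i - 1)) hfix
  -- the involutions fixing a pair
  let J : {p : Ω × Ω // p.1 ≠ p.2} → Type u := fun p => {u : T // u.1 • p.1.1 = p.1.1 ∧ u.1 • p.1.2 = p.1.2}
  have hJ : ∀ p, Nat.card (J p) = Nat.card (S.sqOne hab) - 1 := fun p => by
    rw [S.card_sqOne hab p.2]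
    let e : J p ≃ {g : S.sqOne p.2 // g ≠ 1} :=
      { toFun := fun u => ⟨⟨u.1.1, u.2.1, u.2.2, (hTinv u.1).1⟩, fun e => (hTinv u.1).2 (congrArg Subtype.val e)⟩
        invFun := fun g => ⟨⟨g.1.1, S.isConj_of_invol g.1.2.2.2 fun e => g.2 (Subtype.ext e)⟩, g.1.2.1, g.1.2.2.1⟩
        left_inv := fun _ => rfl
        right_inv := fun _ => rfl }
    rw [Nat.card_congr e]
    show Nat.card ↑({1}ᶜ : Set (S.sqOne p.2)) = _
    rw [Nat.card_coe_set_eq, Set.ncard_compl, Set.ncard_singleton]
  have hcount : Nat.card T * (i * (i - 1)) =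
      Nat.card {p : Ω × Ω // p.1 ≠ p.2} * (Nat.card (S.sqOne hab) - 1) := by
    have e : (Σ u : T, P u) ≃ Σ p, J p :=
      { toFun := fun q => ⟨q.2.1, ⟨q.1, q.2.2⟩⟩
        invFun := fun q => ⟨q.2.1, ⟨q.1, q.2.2⟩⟩
        left_inv := fun _ => rfl
        right_inv := fun _ => rfl }
    have h := Nat.card_congr e
    rw [Nat.card_sigma, Nat.card_sigma, Finset.sum_congr rfl (g := fun _ => i * (i - 1)) (fun u _ => hP u),
      Finset.sum_congr rfl (g := fun _ => Nat.card (S.sqOne hab) - 1) (fun p _ => hJ p), Finset.sum_const,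
      Finset.sum_const, Finset.card_univ, Finset.card_univ, smul_eq_mul, smul_eq_mul,
      ← Nat.card_eq_fintype_card, ← Nat.card_eq_fintype_card] at h
    exact h
  have hpairs : Nat.card {p : Ω × Ω // p.1 ≠ p.2} = Nat.card Ω * (Nat.card Ω - 1) := by
    have e : {p : Ω × Ω // p.1 ≠ p.2} ≃ Σ x : Ω, {y : Ω // y ≠ x} :=
      { toFun := fun p => ⟨p.1.1, ⟨p.1.2, Ne.symm p.2⟩⟩
        invFun := fun q => ⟨(q.1, q.2.1), Ne.symm q.2.2⟩
        left_inv := fun _ => rfl
        right_inv := fun _ => rfl }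
    have hx : ∀ x : Ω, Nat.card {y : Ω // y ≠ x} = Nat.card Ω - 1 := fun x => by
      show Nat.card ↑({x}ᶜ : Set Ω) = _
      rw [Nat.card_coe_set_eq, Set.ncard_compl, Set.ncard_singleton]
    rw [Nat.card_congr e, Nat.card_sigma, Finset.sum_congr rfl (g := fun _ => Nat.card Ω - 1)
      (fun x _ => hx x), Finset.sum_const, Finset.card_univ, smul_eq_mul, ← Nat.card_eq_fintype_card]
  rw [hpairs] at hcount
  have hn : 1 < Nat.card Ω := by
    haveI : Nontrivial Ω := ⟨⟨a, b, hab⟩⟩
    exact Finite.one_lt_card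
  have hTC : Nat.card T * Nat.card (Subgroup.centralizer ({t} : Set G)) = Nat.card G := card_class t
  rw [(S.card_eq hab).1, S.card_group hab] at hTC
  refine Nat.eq_of_mul_eq_mul_left (Nat.mul_pos (by omega : 0 < Nat.card Ω) (by omega : 0 < Nat.card Ω - 1)) ?_
  calc _ = Nat.card Ω * ((Nat.card Ω - 1) * Nat.card (stabilizer G a ⊓ stabilizer G b : Subgroup G)) *
        (i * (i - 1)) := by ring
    _ = Nat.card T * (i * (i - 1)) * (Nat.card Ω - i) := by rw [← hTC]; ring
    _ = _ := by rw [hcount]; ring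

theorem card_points (h2 : 2 ≤ i) {a b : Ω} (hab : a ≠ b) :
    Nat.card Ω = i + Nat.card (stabilizer G a ⊓ stabilizer G b : Subgroup G) * i := by
  have h := S.pair_count hab
  rw [S.card_sqOne_eq h2 hab, ← mul_assoc, mul_comm (i - 1)] at h
  have h1 := Nat.eq_of_mul_eq_mul_right (by omega : 0 < i - 1) h
  have := S.lt_card
  omega

theorem cent_stab_eq (h2 : 2 ≤ i) {a b : Ω} (hab : a ≠ b) (ha : t • a = a) (hb : t • b = b) :
    (Subgroup.centralizer ({t} : Set G) ⊓ stabilizer G a : Subgroup G) = stabilizer G a ⊓ stabilizer G b := by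
  refine (Subgroup.eq_of_le_of_card_ge ?_ ?_).symm
  · rintro g ⟨ga, gb⟩
    exact ⟨Subgroup.mem_centralizer_singleton_iff.2 (S.comm hab ga gb ha hb).eq, ga⟩
  · have h1 := S.card_cent_stab ha
    rw [(S.card_eq hab).1, S.card_points h2 hab, Nat.add_sub_cancel_left, mul_comm _ i] at h1
    exact (Nat.eq_of_mul_eq_mul_left (by omega) h1).le

/-- The two point stabiliser fixes the whole fixed point set of its involution. -/
theorem fix_line (h2 : 2 ≤ i) {a b : Ω} (hab : a ≠ b) (ha : t • a = a) (hb : t • b = b) {d : G}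
    (da : d • a = a) (db : d • b = b) {c : Ω} (hc : t • c = c) : d • c = c := by
  by_cases hca : c = a
  · rw [hca, da]
  have h := (S.cent_stab_eq h2 hab ha hb).symm.trans (S.cent_stab_eq h2 (Ne.symm hca) ha hc)
  exact (Subgroup.mem_inf.1 (h ▸ Subgroup.mem_inf.2 ⟨da, db⟩ : d ∈ stabilizer G a ⊓ stabilizer G c)).2

theorem even_i (h2 : 2 ≤ i) {a b : Ω} (hab : a ≠ b) : Even i := by
  have hlt : 1 < Nat.card (S.sqOne hab) := by rw [S.card_sqOne_eq h2 hab]; omega
  haveI := Finite.one_lt_card_iff_nontrivial.1 hlt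
  obtain ⟨g, hg⟩ := exists_ne (1 : S.sqOne hab)
  have h : orderOf g = 2 := orderOf_eq_prime (by rw [pow_two]; exact Subtype.ext g.2.2.2) hg
  rw [even_iff_two_dvd, ← S.card_sqOne_eq h2 hab, ← h]
  exact orderOf_dvd_natCard g

/-- **Constant fixity is at most two.** -/
theorem i_le_two (h2 : 2 ≤ i) : i = 2 := by
  classical
  by_contra hne
  -- two fixed points of `t`
  have hF : 1 < Nat.card {x : Ω // t • x = x} := by
    have := S.fix
    unfold nf at this
    omega
  haveI := Finite.one_lt_card_iff_nontrivial.1 hF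
  obtain ⟨⟨a, ha⟩, ⟨b, hb⟩, hab'⟩ := exists_pair_ne {x : Ω // t • x = x}
  have hab : a ≠ b := fun e => hab' (Subtype.ext e)
  set F : Set Ω := {x | t • x = x} with hFdef
  set D : Subgroup G := stabilizer G a ⊓ stabilizer G b with hDdef
  have hev := S.even_i h2 hab
  set M : Subgroup G := stabilizer G a ⊓ stabilizer G F with hMdef
  have hDfix : ∀ d ∈ D, ∀ c ∈ F, d • c = c := fun d hd c hc =>
    S.fix_line h2 hab ha hb (Subgroup.mem_inf.1 hd).1 (Subgroup.mem_inf.1 hd).2 hc
  have hDM : D ≤ M := fun d hd => by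
    refine Subgroup.mem_inf.2 ⟨(Subgroup.mem_inf.1 hd).1, ?_⟩
    rw [mem_stabilizer_iff]
    ext c
    constructor
    · rintro ⟨c', hc', rfl⟩
      show d • c' ∈ F
      rwa [hDfix d hd c' hc']
    · exact fun hc => ⟨c, hc, hDfix d hd c hc⟩
  have hMmem : ∀ g ∈ M, ∀ c ∈ F, g • c ∈ F := fun g hg c hc => by
    have h := (Subgroup.mem_inf.1 hg).2
    rw [mem_stabilizer_iff] at h
    rw [← h]
    exact Set.smul_mem_smul_set hc
  -- the involution of a two point stabiliser has the line as fixed point set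
  have hline : ∀ u : G, u * u = 1 → u ≠ 1 → u • a = a → u • b = b → {x | u • x = x} = F := by
    intro u hu hu1 ua ub
    refine (Set.eq_of_subset_of_ncard_le (fun c hc => hDfix u (Subgroup.mem_inf.2 ⟨ua, ub⟩) c hc) ?_
      (Set.toFinite _)).symm
    show {x : Ω | u • x = x}.ncard ≤ F.ncard
    rw [← Nat.card_coe_set_eq, ← Nat.card_coe_set_eq]
    show nf Ω u ≤ nf Ω t
    rw [S.fix, (S.of_invol hu hu1).fix]
  have horb : orbit M b = F \ {a} := by
    ext c
    constructor
    · rintro ⟨g, rfl⟩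
      refine ⟨hMmem g g.2 b hb, fun e : (g : G) • b = a => hab ?_⟩
      exact smul_left_cancel (g : G) ((Subgroup.mem_inf.1 g.2).1.trans e.symm : (g : G) • a = (g : G) • b)
    · rintro ⟨hc, hca⟩
      obtain ⟨g, ga, gb⟩ := S.two a b a c hab (Ne.symm hca)
      refine ⟨⟨g, Subgroup.mem_inf.2 ⟨ga, ?_⟩⟩, gb⟩
      have hu : (g⁻¹ * t * g) * (g⁻¹ * t * g) = 1 := by
        rw [show g⁻¹ * t * g * (g⁻¹ * t * g) = g⁻¹ * (t * t) * g by group, S.sq, mul_one, inv_mul_cancel]
      have hu1 : g⁻¹ * t * g ≠ 1 := fun e => S.ne_one (by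
        rw [show t = g * (g⁻¹ * t * g) * g⁻¹ by group, e]; group)
      have h := hline _ hu hu1 (by rw [mul_smul, mul_smul, ga, ha, inv_smul_eq_iff, ga])
        (by
          rw [mul_smul, mul_smul, gb, show t • c = c from hc, inv_smul_eq_iff, gb])
      rw [mem_stabilizer_iff]
      ext x
      constructor
      · rintro ⟨y, hy, rfl⟩
        rw [← h] at hy
        show t • g • y = g • y
        have hy' : (g⁻¹ * t * g) • y = y := hy
        rwa [mul_smul, mul_smul, inv_smul_eq_iff] at hy'
      · intro hx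
        refine ⟨g⁻¹ • x, ?_, smul_inv_smul g x⟩
        rw [← h]
        show (g⁻¹ * t * g) • g⁻¹ • x = g⁻¹ • x
        rw [mul_smul, mul_smul, smul_inv_smul, show t • x = x from hx]
  have hMcard : Nat.card M = (i - 1) * Nat.card D := by
    have h := (stabilizer M b).index_mul_card
    have hsub : D.subgroupOf M = stabilizer M b := by
      ext g
      exact ⟨fun h => (Subgroup.mem_inf.1 h).2,
        fun h => Subgroup.mem_inf.2 ⟨(Subgroup.mem_inf.1 g.2).1, h⟩⟩
    rw [index_stabilizer, horb, Set.ncard_sdiff (Set.singleton_subset_iff.2 (show a ∈ F from ha)), Set.ncard_singleton,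
      ← hsub, Nat.card_congr (Subgroup.subgroupOfEquivOfLe hDM).toEquiv] at h
    rw [← h, ← S.fix]
    rfl
  -- the stabiliser of the point
  set A : Subgroup G := stabilizer G a with hAdef
  have hMA : M ≤ A := inf_le_left
  have hn : Nat.card Ω = i + Nat.card D * i := S.card_points h2 hab
  have hAcard : Nat.card A = (Nat.card Ω - 1) * Nat.card D := by
    have h := S.card_group hab
    haveI : IsPretransitive G Ω := ⟨fun x y => by
      by_cases hxy : x = y
      · exact ⟨1, by rw [one_smul, hxy]⟩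
      · obtain ⟨g, hg, -⟩ := S.two x y y x hxy (Ne.symm hxy)
        exact ⟨g, hg⟩⟩
    have h1 := A.index_mul_card
    rw [hAdef, index_stabilizer_of_transitive, h] at h1
    exact Nat.eq_of_mul_eq_mul_left (by omega) h1
  have hD0 : 0 < Nat.card D := Nat.card_pos
  have hodd1 : Odd (i - 1) := Nat.Even.sub_odd (by omega) hev odd_one
  have htM : t ∈ M := hDM (Subgroup.mem_inf.2 ⟨ha, hb⟩)
  have hord : orderOf t = 2 := orderOf_eq_prime (by rw [pow_two, S.sq]) S.ne_one
  -- `M` is strongly embedded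
  have hse : Cfsg.IsStronglyEmbedded (M.subgroupOf A) := by
    refine ⟨fun h => ?_, ?_, ?_⟩
    · have h1 := Nat.card_congr (Subgroup.subgroupOfEquivOfLe hMA).toEquiv
      rw [h, Subgroup.card_top, hAcard, hMcard] at h1
      have h3 := Nat.eq_of_mul_eq_mul_right hD0 h1
      have : 0 < Nat.card D * i := Nat.mul_pos hD0 (by omega)
      omega
    · rw [Nat.card_congr (Subgroup.subgroupOfEquivOfLe hMA).toEquiv, even_iff_two_dvd, ← hord]
      exact Subgroup.orderOf_dvd_natCard M htM
    · intro g hg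
      rw [← Nat.not_even_iff_odd]
      intro hev'
      haveI := Fact.mk Nat.prime_two
      obtain ⟨u, hu⟩ := exists_prime_orderOf_dvd_card'
        (G := (M.subgroupOf A ⊓ (M.subgroupOf A).map (MulAut.conj g).toMonoidHom : Subgroup A)) 2 hev'.two_dvd
      obtain ⟨hu1, v, hv, hve⟩ := Subgroup.mem_inf.1 u.2
      have huo : orderOf ((u : A) : G) = 2 := by rw [Subgroup.orderOf_coe, Subgroup.orderOf_coe, hu]
      have hvo : orderOf (v : G) = 2 := by
        rw [Subgroup.orderOf_coe, ← MulEquiv.orderOf_eq (MulAut.conj g) v]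
        exact (congrArg orderOf hve).trans ((Subgroup.orderOf_coe u).trans hu)
      -- an involution of `M` has the line as fixed point set
      have key : ∀ m : G, m ∈ M → orderOf m = 2 → {x | m • x = x} = F := by
        intro m hm hmo
        have hm2 : m * m = 1 := by rw [← pow_two, ← hmo, pow_orderOf_eq_one]
        have hm1 : m ≠ 1 := fun e => by rw [e, orderOf_one] at hmo; omega
        obtain ⟨c, hc, hmc⟩ : ∃ c ∈ F \ {a}, m • c = c := by
          by_contra hcon
          push Not at hcon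
          let σ : Equiv.Perm ↑(F \ {a}) :=
            Function.Involutive.toPerm (fun c => ⟨m • c.1, hMmem m hm c.1 c.2.1,
              fun e : m • c.1 = a => c.2.2 (smul_left_cancel m (e.trans (Subgroup.mem_inf.1 hm).1.symm))⟩)
              (fun c => Subtype.ext (show m • m • c.1 = c.1 by rw [← mul_smul, hm2, one_smul]))
          haveI := Fintype.ofFinite ↑(F \ {a})
          have h1 : Even (Fintype.card ↑(F \ {a})) := by
            have hsupp : σ.support = Finset.univ := Finset.eq_univ_iff_forall.2 fun c => by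
              rw [Equiv.Perm.mem_support]
              exact fun e => hcon c.1 c.2 (congrArg Subtype.val e)
            rw [← Finset.card_univ, ← hsupp, even_iff_two_dvd]
            exact Equiv.Perm.two_dvd_card_support (by
              rw [pow_two]
              exact Equiv.ext fun c => Subtype.ext (show m • m • c.1 = c.1 by rw [← mul_smul, hm2, one_smul]))
          rw [← Nat.card_eq_fintype_card, Nat.card_coe_set_eq,
            Set.ncard_sdiff (Set.singleton_subset_iff.2 (show a ∈ F from ha)), Set.ncard_singleton, ← Nat.card_coe_set_eq] at h1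
          have h3 : Nat.card F = i := S.fix
          rw [h3] at h1
          exact Nat.not_even_iff_odd.2 hodd1 h1
        have hma : m • a = a := (Subgroup.mem_inf.1 hm).1
        have hmb : m • b = b := by
          have h := (S.cent_stab_eq h2 hab ha hb).symm.trans
            (S.cent_stab_eq h2 (fun e => hc.2 e.symm) ha hc.1)
          have h' : m ∈ stabilizer G a ⊓ stabilizer G c := Subgroup.mem_inf.2 ⟨hma, hmc⟩
          rw [← h] at h'
          exact (Subgroup.mem_inf.1 h').2
        exact hline m hm2 hm1 hma hmb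
      apply hg
      refine Subgroup.mem_subgroupOf.2 (Subgroup.mem_inf.2 ⟨g.2, ?_⟩)
      have h1 := key _ (Subgroup.mem_subgroupOf.1 hu1) huo
      have h2' := key _ (Subgroup.mem_subgroupOf.1 hv) hvo
      have hve' : (g : G) * (v : G) * (g : G)⁻¹ = ((u : A) : G) := congrArg Subtype.val hve
      rw [mem_stabilizer_iff]
      ext x
      constructor
      · rintro ⟨y, hy, rfl⟩
        rw [← h2'] at hy
        rw [← h1]
        show ((u : A) : G) • (g : G) • y = (g : G) • y
        rw [← hve', mul_smul, mul_smul, inv_smul_smul, show (v : G) • y = y from hy]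
      · intro hx
        refine ⟨(g : G)⁻¹ • x, ?_, smul_inv_smul _ x⟩
        rw [← h1] at hx
        rw [← h2']
        show (v : G) • (g : G)⁻¹ • x = (g : G)⁻¹ • x
        have hx' : ((u : A) : G) • x = x := hx
        rw [← hve', mul_smul, mul_smul] at hx'
        exact smul_left_cancel (g : G) (hx'.trans (smul_inv_smul _ _).symm)
  -- `M` is solvable
  have hsol : Group.IsSolvable (M.subgroupOf A) := by
    haveI hDn : (D.subgroupOf M).Normal := ⟨fun d hd g => by
      refine Subgroup.mem_subgroupOf.2 (Subgroup.mem_inf.2 ⟨?_, ?_⟩)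
      · exact (Subgroup.mem_inf.1 (g * d * g⁻¹).2).1
      · show ((g : G) * (d : G) * (g : G)⁻¹) • b = b
        have hb' : (g : G)⁻¹ • b ∈ F := hMmem _ (M.inv_mem g.2) b hb
        rw [mul_smul, mul_smul, hDfix _ (Subgroup.mem_subgroupOf.1 hd) _ hb', smul_inv_smul]⟩
    haveI : Group.IsSolvable (D.subgroupOf M) := Group.isSolvable_of_comm fun x y => by
      refine Subtype.ext (Subtype.ext ?_)
      have hx := Subgroup.mem_inf.1 (Subgroup.mem_subgroupOf.1 x.2)
      have hy := Subgroup.mem_inf.1 (Subgroup.mem_subgroupOf.1 y.2)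
      exact (S.comm hab hx.1 hx.2 hy.1 hy.2).eq
    haveI : Group.IsSolvable (↥M ⧸ D.subgroupOf M) := Cfsg.Agent.S0205.result (by
      have h := (D.subgroupOf M).card_eq_card_quotient_mul_card_subgroup
      rw [Nat.card_congr (Subgroup.subgroupOfEquivOfLe hDM).toEquiv, hMcard] at h
      rwa [← Nat.eq_of_mul_eq_mul_right hD0 h])
    haveI : Group.IsSolvable M := Group.isSolvable_of_ker_le_range (D.subgroupOf M).subtype
      (QuotientGroup.mk' (D.subgroupOf M)) (by rw [QuotientGroup.ker_mk', Subgroup.range_subtype])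
    exact Group.isSolvable_of_isSolvable_injective (f := (Subgroup.subgroupOfEquivOfLe hMA).toMonoidHom)
      (Subgroup.subgroupOfEquivOfLe hMA).injective
  have hfour : ∃ s ∈ M.subgroupOf A, ∃ s' ∈ M.subgroupOf A,
      orderOf s = 2 ∧ orderOf s' = 2 ∧ s ≠ s' ∧ s * s' = s' * s := by
    obtain ⟨u, hu, hut⟩ : ∃ u : S.sqOne hab, u ≠ 1 ∧ (u : G) ≠ t := by
      by_contra hcon
      push Not at hcon
      have hle : Nat.card (S.sqOne hab) ≤ Nat.card Bool := Nat.card_le_card_of_surjective
        (fun c : Bool => if c then (1 : S.sqOne hab) else ⟨t, ha, hb, S.sq⟩) fun z => by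
          by_cases hz : z = 1
          · exact ⟨true, hz.symm⟩
          · exact ⟨false, Subtype.ext (hcon z hz).symm⟩
      rw [S.card_sqOne_eq h2 hab, Nat.card_eq_fintype_card, Fintype.card_bool] at hle
      omega
    obtain ⟨u, ua, ub, uu⟩ := u
    have huo : orderOf u = 2 := orderOf_eq_prime (by rw [pow_two, uu]) fun e => hu (Subtype.ext e)
    refine ⟨⟨t, ha⟩, htM, ⟨u, ua⟩, hDM (Subgroup.mem_inf.2 ⟨ua, ub⟩), ?_, ?_, fun e => hut (congrArg Subtype.val e).symm,
      Subtype.ext (S.comm hab ha hb ua ub).eq⟩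
    · exact (Subgroup.orderOf_coe (⟨t, ha⟩ : A)).symm.trans hord
    · exact (Subgroup.orderOf_coe (⟨u, ua⟩ : A)).symm.trans huo
  have hidx := CfsgLib.Bender.index_eq hse hsol hfour
  have hcard := (M.subgroupOf A).index_mul_card
  rw [Nat.card_congr (Subgroup.subgroupOfEquivOfLe hMA).toEquiv, hMcard, hidx, hAcard, ← mul_assoc] at hcard
  have hcard' := Nat.eq_of_mul_eq_mul_right hD0 hcard
  set P2 := 2 ^ ((Nat.card Ω - 1) * Nat.card D).factorization 2 with hP2
  have hdvd : P2 ∣ Nat.card D := by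
    have hcop : Nat.Coprime P2 (Nat.card Ω - 1) := by
      refine Nat.Coprime.pow_left _ (Nat.coprime_two_left.2 ?_)
      refine Nat.Even.sub_odd (by omega) ?_ odd_one
      rw [hn]
      exact hev.add (hev.mul_left _)
    exact hcop.dvd_of_dvd_mul_left (Nat.ordProj_dvd _ _)
  obtain ⟨m, hm⟩ := hdvd
  have hP0 : 0 < P2 := Nat.two_pow_pos _
  have h5 : P2 * (i - 1) = P2 * (m * i) := by
    rw [add_mul, one_mul] at hcard'
    rw [← mul_assoc, ← hm]
    generalize P2 * (i - 1) = X at hcard' ⊢
    generalize Nat.card D * i = Y at hn ⊢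
    omega
  have h6 := Nat.eq_of_mul_eq_mul_left hP0 h5
  rcases Nat.eq_zero_or_pos m with h0 | h0
  · rw [h0, zero_mul] at h6; omega
  · have : 1 * i ≤ m * i := Nat.mul_le_mul_right i h0
    omega

end Raw

end CfsgLib.LocalEvenB.ConstFix
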