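import Cfsg.Agent.Lib.LocalEvenB.ConstFix.Line

/-!
Owner: helper20. Constant fixity at most two: three point stabilisers are trivial, or every two
commuting involutions are equal.
-/

set_option autoImplicit false
set_option linter.all false

namespace CfsgLib.LocalEvenB.ConstFix

open MulAction

/-- The parity of the points an involution fixes in an invariant set. -/
theorem parity {X : Type*} [Finite X] (σ : X → X) (h : Function.Involutive σ) :
    Nat.card X % 2 = Nat.card {x // σ x = x} % 2 := by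
  classical
  haveI := Fintype.ofFinite X
  have h1 : 2 ∣ (h.toPerm).support.card := Equiv.Perm.two_dvd_card_support (by
    rw [pow_two]
    exact Equiv.ext fun c => h c)
  have h2 : (h.toPerm).support.card + Nat.card {x // σ x = x} = Nat.card X := by
    rw [show (h.toPerm).support = Finset.univ.filter (fun x => ¬ σ x = x) from by ext x; simp,
      Nat.card_eq_fintype_card, Nat.card_eq_fintype_card, Fintype.card_subtype, add_comm]
    exact Finset.card_filter_add_card_filter_not (s := (Finset.univ : Finset X)) (fun x => σ x = x)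
  omega

namespace Raw

variable {G Ω : Type*} [Group G] [MulAction G Ω] [Finite G] [Finite Ω] [FaithfulSMul G Ω] {i : ℕ}
  {t : G} (S : Raw G Ω i t)
include S

/-- **Three point stabilisers are trivial, or there is no four-group.** -/
theorem semiregular (h2 : i ≤ 2) :
    (∀ (e : G) (a b c : Ω), a ≠ b → b ≠ c → a ≠ c → e • a = a → e • b = b → e • c = c → e = 1) ∨
      (i = 1 ∧ ∀ u v : G, u * u = 1 → v * v = 1 → u ≠ 1 → v ≠ 1 → Commute u v → u = v) := by
  classical
  haveI := Fintype.ofFinite Ω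
  by_cases hcon : ∀ (e : G) (a b c : Ω), a ≠ b → b ≠ c → a ≠ c → e • a = a → e • b = b → e • c = c → e = 1
  · exact Or.inl hcon
  push Not at hcon
  obtain ⟨e, a, b, c, hab, hbc, hac, ea, eb, ec, he1⟩ := hcon
  have hnf : 3 ≤ nf Ω e := by
    have h : Nat.card {x : Ω // x = a ∨ x = b ∨ x = c} = 3 := by
      rw [Nat.card_eq_fintype_card, Fintype.card_subtype]
      have e1 : Finset.univ.filter (fun x : Ω => x = a ∨ x = b ∨ x = c) = {a, b, c} := by
        ext x; simp
      rw [e1, Finset.card_eq_three]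
      exact ⟨a, b, c, hab, hac, hbc, rfl⟩
    rw [← h]
    refine Nat.card_le_card_of_injective (fun x => ⟨x.1, ?_⟩) fun x y h => Subtype.ext (congrArg Subtype.val h :)
    rcases x.2 with h | h | h <;> rw [h] <;> assumption
  have he2 : e * e ≠ 1 := fun h => by
    have := (S.of_invol h he1).fix
    omega
  -- nothing commuting with `e` is an involution
  have hcomm : ∀ u : G, u * u = 1 → u ≠ 1 → ¬ Commute e u := fun u hu hu1 h => by
    have := (S.of_invol hu hu1).const e h he1
    omega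
  set X : Set Ω := {x | e • x = x} with hX
  -- the centraliser is transitive on the fixed points
  have htr : ∀ x ∈ X, ∀ y ∈ X, ∃ g, Commute g e ∧ g • x = y := by
    intro x hx y hy
    by_cases hxy : x = y
    · exact ⟨1, Commute.one_left _, by rw [one_smul, hxy]⟩
    obtain ⟨z, hz, hzx, hzy⟩ : ∃ z ∈ X, z ≠ x ∧ z ≠ y := by
      by_cases h1 : a ≠ x ∧ a ≠ y
      · exact ⟨a, ea, h1⟩
      by_cases h3 : b ≠ x ∧ b ≠ y
      · exact ⟨b, eb, h3⟩
      simp only [ne_eq, not_and, Decidable.not_not] at h1 h3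
      refine ⟨c, ec, fun h => ?_, fun h => ?_⟩
      · have ha' := h1 fun e' => hac (e'.trans h.symm)
        exact hab (ha'.trans (h3 fun e' => hbc (e'.trans h.symm)).symm)
      · have ha' : a = x := by
          by_contra e'
          exact hac ((h1 e').trans h.symm)
        have hb' : b = x := by
          by_contra e'
          exact hbc ((h3 e').trans h.symm)
        exact hab (ha'.trans hb'.symm)
    obtain ⟨w₁, -, w₁x, w₁z⟩ := S.exists_conj_swap (Ne.symm hzx)
    obtain ⟨w₂, -, w₂z, w₂y⟩ := S.exists_conj_swap hzy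
    refine ⟨w₂ * w₁, ?_, by rw [mul_smul, w₁x, w₂z]⟩
    have h1 := S.inverts (Ne.symm hzx) w₁x w₁z hx hz
    have h3 := S.inverts hzy w₂z w₂y hz hy
    have h4 : w₂ * w₁ * e * (w₂ * w₁)⁻¹ = e := by
      rw [show w₂ * w₁ * e * (w₂ * w₁)⁻¹ = w₂ * (w₁ * e * w₁⁻¹) * w₂⁻¹ by group, h1,
        show w₂ * e⁻¹ * w₂⁻¹ = (w₂ * e * w₂⁻¹)⁻¹ by group, h3, inv_inv]
    exact mul_inv_eq_iff_eq_mul.1 h4
  have horb : orbit (Subgroup.centralizer ({e} : Set G)) a = X := by
    ext x
    constructor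
    · rintro ⟨g, rfl⟩
      show e • (g : G) • a = (g : G) • a
      rw [← mul_smul, ← Subgroup.mem_centralizer_singleton_iff.1 g.2, mul_smul, ea]
    · intro hx
      obtain ⟨g, hg, hgx⟩ := htr a ea x hx
      exact ⟨⟨g, Subgroup.mem_centralizer_singleton_iff.2 hg.eq⟩, hgx⟩
  have hXcard : Nat.card X = nf Ω e := rfl
  -- there are an odd number of them
  have hoddX : Nat.card X % 2 = 1 := by
    by_contra hev
    have h := (stabilizer (Subgroup.centralizer ({e} : Set G)) a).index_mul_card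
    rw [index_stabilizer, horb, ← Nat.card_coe_set_eq] at h
    have hd : 2 ∣ Nat.card (Subgroup.centralizer ({e} : Set G)) :=
      (Nat.dvd_of_mod_eq_zero (by omega)).trans (Dvd.intro _ h)
    haveI := Fact.mk Nat.prime_two
    obtain ⟨u, hu⟩ := exists_prime_orderOf_dvd_card' 2 hd
    have hu2 : (u : G) ^ 2 = 1 := by rw [← hu, ← Subgroup.orderOf_coe, pow_orderOf_eq_one]
    refine hcomm u (by rw [← pow_two, hu2]) (fun h => ?_) (Subgroup.mem_centralizer_singleton_iff.1 u.2).symm
    rw [show u = 1 from Subtype.ext h, orderOf_one] at hu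
    omega
  -- an inverting element preserves the set
  have hinv : ∀ w : G, w * e * w⁻¹ = e⁻¹ → ∀ x ∈ X, w • x ∈ X := by
    intro w hw x hx
    show e • w • x = w • x
    have h1 : (w * e * w⁻¹) • w • x = w • x := by
      rw [mul_smul, mul_smul, inv_smul_smul, show e • x = x from hx]
    rw [hw, inv_smul_eq_iff] at h1
    exact h1.symm
  -- an inverting involution fixes a point of the set
  have hfixX : ∀ w : G, w * w = 1 → w * e * w⁻¹ = e⁻¹ → ∃ x ∈ X, w • x = x := by
    intro w hw2 hw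
    by_contra hcon
    push Not at hcon
    have h := parity (fun x : X => (⟨w • x.1, hinv w hw x.1 x.2⟩ : X))
      (fun x => Subtype.ext (show w • w • x.1 = x.1 by rw [← mul_smul, hw2, one_smul]))
    haveI : IsEmpty {x : X // (⟨w • x.1, hinv w hw x.1 x.2⟩ : X) = x} :=
      ⟨fun x => hcon x.1.1 x.1.2 (congrArg Subtype.val x.2)⟩
    have h0 : Nat.card {x : X // (⟨w • x.1, hinv w hw x.1 x.2⟩ : X) = x} = 0 := Nat.card_of_isEmpty
    omega
  obtain ⟨w, -, wa, wb⟩ := S.exists_conj_swap hab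
  have hw2 := S.swap_sq hab wa wb
  have hw1 : w ≠ 1 := fun h => hab (by rw [← wa, h, one_smul])
  have hwe := S.inverts hab wa wb ea eb
  obtain ⟨x0, hx0, wx0⟩ := hfixX w hw2 hwe
  have hi1 : i = 1 := by
    rcases Nat.lt_or_ge i 1 with h | h
    · exfalso
      have h' := (S.of_invol hw2 hw1).fix
      haveI : Nonempty {x : Ω // w • x = x} := ⟨⟨x0, wx0⟩⟩
      have : 0 < nf Ω w := Nat.card_pos
      omega
    · rcases Nat.lt_or_ge i 2 with h' | h'
      · omega
      · exfalso
        have hi : i = 2 := by omega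
        haveI : Nonempty {x : Ω // t • x = x} :=
          (Nat.card_pos_iff.1 (by rw [show Nat.card {x : Ω // t • x = x} = i from S.fix]; omega)).1
        have hm := S.card_sqOne_eq h' hab
        -- an involution in a two point stabiliser commutes with `e`
        have hlt : 1 < Nat.card (S.sqOne hab) := by rw [hm]; omega
        haveI := Finite.one_lt_card_iff_nontrivial.1 hlt
        obtain ⟨⟨u, ua, ub, uu⟩, hu⟩ := exists_ne (1 : S.sqOne hab)
        exact hcomm u uu (fun h => hu (Subtype.ext h)) (S.comm hab ea eb ua ub)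
  refine Or.inr ⟨hi1, ?_⟩
  subst hi1
  have huniq : ∀ (u : G) (x y : Ω), u * u = 1 → u ≠ 1 → u • x = x → u • y = y → x = y := by
    intro u x y hu hu1 hx hy
    have h := (S.of_invol hu hu1).fix
    haveI : Subsingleton {x : Ω // u • x = x} := (Nat.card_eq_one_iff_unique.1 h).1
    exact congrArg Subtype.val (Subsingleton.elim (⟨x, hx⟩ : {x : Ω // u • x = x}) ⟨y, hy⟩)
  set T : Set G := {u | u * u = 1 ∧ u ≠ 1} with hT
  set W : Set G := {u | (u * u = 1 ∧ u ≠ 1) ∧ u * e * u⁻¹ = e⁻¹} with hW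
  set V : Set G := {u | (u * u = 1 ∧ u ≠ 1) ∧ ∃ x ∈ X, u • x = x} with hV
  have hWV : W ⊆ V := fun u hu => ⟨hu.1, hfixX u hu.1.1 hu.2⟩
  set d := Nat.card (stabilizer G a ⊓ stabilizer G b : Subgroup G) with hd
  -- the involutions at a point
  have hI : ∀ x : Ω, Nat.card {u : G // (u * u = 1 ∧ u ≠ 1) ∧ u • x = x} = d := by
    have hconst : ∀ x : Ω, Nat.card {u : G // (u * u = 1 ∧ u ≠ 1) ∧ u • x = x} =
        Nat.card {u : G // (u * u = 1 ∧ u ≠ 1) ∧ u • a = a} := by
      intro x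
      obtain ⟨g, hg⟩ : ∃ g : G, g • a = x := by
        by_cases h : a = x
        · exact ⟨1, by rw [one_smul, h]⟩
        · obtain ⟨g, hg, -⟩ := S.two a x x a h (Ne.symm h)
          exact ⟨g, hg⟩
      refine (Nat.card_congr ((MulAut.conj g).toEquiv.subtypeEquiv fun u => ?_)).symm
      show (u * u = 1 ∧ u ≠ 1) ∧ u • a = a ↔
        (g * u * g⁻¹ * (g * u * g⁻¹) = 1 ∧ g * u * g⁻¹ ≠ 1) ∧ (g * u * g⁻¹) • x = x
      rw [show g * u * g⁻¹ * (g * u * g⁻¹) = g * (u * u) * g⁻¹ by group]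
      simp only [ne_eq, conj_eq_one_iff, ← hg, mul_smul, inv_smul_smul, smul_left_cancel_iff]
    have hTeq : T = {u | IsConj t u} := by
      ext u
      refine ⟨fun h => S.isConj_of_invol h.1 h.2, fun h => ?_⟩
      obtain ⟨g, rfl⟩ := isConj_iff.1 h
      refine ⟨?_, fun h' => S.ne_one (conj_eq_one_iff.1 h')⟩
      rw [show g * t * g⁻¹ * (g * t * g⁻¹) = g * (t * t) * g⁻¹ by group, S.sq, mul_one, mul_inv_cancel]
    have h1 : Nat.card T * (Nat.card Ω - 1) = Nat.card Ω * ((Nat.card Ω - 1) * d) := by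
      have h0 := card_class t
      rw [(S.card_eq hab).1, S.card_group hab] at h0
      rwa [hTeq]
    have hn : 1 < Nat.card Ω := by
      haveI : Nontrivial Ω := ⟨⟨a, b, hab⟩⟩
      exact Finite.one_lt_card
    rw [mul_comm (Nat.card Ω - 1) d, ← mul_assoc] at h1
    have h2 := Nat.eq_of_mul_eq_mul_right (by omega : 0 < Nat.card Ω - 1) h1
    have e : (Σ x : Ω, {u : G // (u * u = 1 ∧ u ≠ 1) ∧ u • x = x}) ≃ T :=
      Equiv.ofBijective (fun q => ⟨q.2.1, q.2.2.1⟩) ⟨by
        rintro ⟨x, u, hu, hux⟩ ⟨y, v, hv, hvy⟩ h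
        have huv : u = v := congrArg Subtype.val h
        subst huv
        have hxy : x = y := huniq u _ _ hu.1 hu.2 hux hvy
        subst hxy
        rfl, by
        rintro ⟨u, hu⟩
        obtain ⟨⟨x, hx⟩⟩ : Nonempty {x : Ω // u • x = x} :=
          (Nat.card_pos_iff.1 (by rw [show Nat.card {x : Ω // u • x = x} = 1 from
            (S.of_invol hu.1 hu.2).fix]; omega)).1
        exact ⟨⟨x, u, hu, hx⟩, rfl⟩⟩
    rw [← Nat.card_congr e, Nat.card_sigma, Finset.sum_congr rfl (fun x _ => hconst x), Finset.sum_const,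
      Finset.card_univ, smul_eq_mul, ← Nat.card_eq_fintype_card] at h2
    intro x
    rw [hconst x]
    exact Nat.eq_of_mul_eq_mul_left (by omega) h2
  have hVc : Nat.card V = Nat.card X * d := by
    haveI := Fintype.ofFinite X
    have e : (Σ x : X, {u : G // (u * u = 1 ∧ u ≠ 1) ∧ u • x.1 = x.1}) ≃ V :=
      Equiv.ofBijective (fun q => ⟨q.2.1, q.2.2.1, q.1.1, q.1.2, q.2.2.2⟩) ⟨by
        rintro ⟨x, u, hu, hux⟩ ⟨y, v, hv, hvy⟩ h
        have huv : u = v := congrArg Subtype.val h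
        subst huv
        have hxy : x = y := Subtype.ext (huniq u _ _ hu.1 hu.2 hux hvy)
        subst hxy
        rfl, by
        rintro ⟨u, hu, x, hx, hux⟩
        exact ⟨⟨⟨x, hx⟩, u, hu, hux⟩, rfl⟩⟩
    rw [← Nat.card_congr e, Nat.card_sigma, Finset.sum_congr rfl (g := fun _ => d) (fun x _ => hI x.1),
      Finset.sum_const, Finset.card_univ, smul_eq_mul, Nat.card_eq_fintype_card]
  have hWc : Nat.card W = Nat.card X * d := by
    haveI := Fintype.ofFinite X
    haveI := Fintype.ofFinite W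
    have hX3 : 3 ≤ Nat.card X := hXcard ▸ hnf
    -- the moved pairs
    have hmv : ∀ u : W, Nat.card {x : X // u.1 • x.1 ≠ x.1} = Nat.card X - 1 := by
      intro u
      obtain ⟨x, hx, hux⟩ := hfixX u.1 u.2.1.1 u.2.2
      have e1 : {x : X | u.1 • x.1 ≠ x.1} = ({⟨x, hx⟩} : Set X)ᶜ := by
        ext y
        refine ⟨fun hy e' => hy ?_, fun hy e' => hy ?_⟩
        · rw [show y = ⟨x, hx⟩ from e']; exact hux
        · exact Subtype.ext (huniq u.1 _ _ u.2.1.1 u.2.1.2 e' hux)
      show Nat.card ↑{x : X | u.1 • x.1 ≠ x.1} = _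
      rw [e1, Nat.card_coe_set_eq, Set.ncard_compl, Set.ncard_singleton]
    have hy : ∀ x : X, Nat.card {y : X // y ≠ x} = Nat.card X - 1 := fun x => by
      show Nat.card ↑({x}ᶜ : Set X) = _
      rw [Nat.card_coe_set_eq, Set.ncard_compl, Set.ncard_singleton]
    have hS : ∀ (x : X) (y : {y : X // y ≠ x}),
        Nat.card (swp t x.1 y.1.1) = d := fun x y => by
      rw [S.card_swp_eq (fun h => y.2 (Subtype.ext h.symm)) hab, (S.card_eq hab).2]
    have e : (Σ u : W, {x : X // u.1 • x.1 ≠ x.1}) ≃ Σ x : X, Σ y : {y : X // y ≠ x}, swp t x.1 y.1.1 :=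
      Equiv.ofBijective (fun q => ⟨q.2.1, ⟨⟨q.1.1 • q.2.1.1, hinv _ q.1.2.2 _ q.2.1.2⟩,
          fun h => q.2.2 (congrArg Subtype.val h)⟩, q.1.1, S.isConj_of_invol q.1.2.1.1 q.1.2.1.2, rfl⟩) ⟨by
        rintro ⟨⟨u, hu⟩, x, hx⟩ ⟨⟨v, hv⟩, y, hy⟩ h
        have hxy : x = y := congrArg Sigma.fst h
        subst hxy
        have huv : u = v := congrArg (fun q : (Σ x : X, Σ y : {y : X // y ≠ x}, swp t x.1 y.1.1) => q.2.2.1) h
        subst huv
        rfl, by
        rintro ⟨⟨x, hx⟩, ⟨⟨y, hy⟩, hne⟩, u, hu, huy⟩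
        change u • x = y at huy
        subst huy
        have hne' : u • x ≠ x := fun h => hne (Subtype.ext h)
        have hu2 : u * u = 1 ∧ u ≠ 1 := by
          obtain ⟨g, rfl⟩ := isConj_iff.1 hu
          refine ⟨?_, fun h' => S.ne_one (conj_eq_one_iff.1 h')⟩
          rw [show g * t * g⁻¹ * (g * t * g⁻¹) = g * (t * t) * g⁻¹ by group, S.sq, mul_one, mul_inv_cancel]
        refine ⟨⟨⟨u, hu2, ?_⟩, ⟨x, hx⟩, hne'⟩, rfl⟩
        exact S.inverts (Ne.symm hne') rfl (by rw [← mul_smul, hu2.1, one_smul]) hx hy⟩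
    have h1 : Nat.card (Σ u : W, {x : X // u.1 • x.1 ≠ x.1}) = Nat.card W * (Nat.card X - 1) := by
      rw [Nat.card_sigma, Finset.sum_congr rfl (g := fun _ => Nat.card X - 1) (fun u _ => hmv u),
        Finset.sum_const, Finset.card_univ, smul_eq_mul, ← Nat.card_eq_fintype_card]
    have h2 : ∀ x : X, Nat.card (Σ y : {y : X // y ≠ x}, swp t x.1 y.1.1) = (Nat.card X - 1) * d := fun x => by
      haveI := Fintype.ofFinite {y : X // y ≠ x}
      rw [Nat.card_sigma, Finset.sum_congr rfl (g := fun _ => d) (fun y _ => hS x y), Finset.sum_const,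
        Finset.card_univ, smul_eq_mul, ← Nat.card_eq_fintype_card, hy x]
    have h := Nat.card_congr e
    rw [h1, Nat.card_sigma, Finset.sum_congr rfl (fun x _ => h2 x), Finset.sum_const, Finset.card_univ,
      smul_eq_mul, ← Nat.card_eq_fintype_card, mul_comm (Nat.card W), ← mul_assoc,
      mul_comm (Nat.card X) (Nat.card X - 1), mul_assoc] at h
    exact Nat.eq_of_mul_eq_mul_left (by omega) h
  have hWVeq : W = V := Set.eq_of_subset_of_ncard_le hWV
    (by rw [← Nat.card_coe_set_eq, ← Nat.card_coe_set_eq, hVc, hWc]) (Set.toFinite _)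
  intro u v hu hv hu1 hv1 huv
  by_contra hne
  haveI : Nonempty {x : Ω // u • x = x} :=
    (Nat.card_pos_iff.1 (by rw [show Nat.card {x : Ω // u • x = x} = 1 from (S.of_invol hu hu1).fix]; omega)).1
  obtain ⟨⟨x, hux⟩⟩ := ‹Nonempty {x : Ω // u • x = x}›
  have hvx : v • x = x := huniq u _ _ hu hu1 (by rw [← mul_smul, huv.eq, mul_smul, hux]) hux
  obtain ⟨g, hg⟩ : ∃ g : G, g • x = a := by
    by_cases h : x = a
    · exact ⟨1, by rw [one_smul, h]⟩
    · obtain ⟨g, hg, -⟩ := S.two x a a x h (Ne.symm h)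
      exact ⟨g, hg⟩
  -- at `a` every involution inverts `e`
  have key : ∀ m : G, m * m = 1 → m ≠ 1 → m • x = x → (g * m * g⁻¹) * e * (g * m * g⁻¹)⁻¹ = e⁻¹ := by
    intro m hm hm1 hmx
    have hV' : g * m * g⁻¹ ∈ V := by
      refine ⟨⟨?_, fun h => hm1 (conj_eq_one_iff.1 h)⟩, a, ea, ?_⟩
      · rw [show g * m * g⁻¹ * (g * m * g⁻¹) = g * (m * m) * g⁻¹ by group, hm, mul_one, mul_inv_cancel]
      · rw [← hg, mul_smul, mul_smul, inv_smul_smul, hmx]
    rw [← hWVeq] at hV'
    exact hV'.2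
  have huv1 : u * v * (u * v) = 1 := by
    rw [mul_assoc, ← mul_assoc v, ← huv.eq, mul_assoc u, hv, mul_one, hu]
  have huvne : u * v ≠ 1 := fun h => hne (by
    rw [← inv_eq_of_mul_eq_one_right h, inv_eq_of_mul_eq_one_right hu])
  have h1 := key u hu hu1 hux
  have h2 := key v hv hv1 hvx
  have h3 := key (u * v) huv1 huvne (by rw [mul_smul, hvx, hux])
  rw [show g * (u * v) * g⁻¹ * e * (g * (u * v) * g⁻¹)⁻¹ =
      (g * u * g⁻¹) * ((g * v * g⁻¹) * e * (g * v * g⁻¹)⁻¹) * (g * u * g⁻¹)⁻¹ by group, h2,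
    show (g * u * g⁻¹) * e⁻¹ * (g * u * g⁻¹)⁻¹ = ((g * u * g⁻¹) * e * (g * u * g⁻¹)⁻¹)⁻¹ by group, h1,
    inv_inv] at h3
  exact he2 (mul_eq_one_iff_eq_inv.2 h3)

end Raw

end CfsgLib.LocalEvenB.ConstFix
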